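import Cfsg.Agent.Lib.E6Deg41.Top

/-!
The degrees just below the bound do not divide the group order, apart from two exceptions.
-/

set_option autoImplicit false
set_option maxRecDepth 100000

namespace Cfsg.Agent.Lib.E6Deg41

open Cfsg.Lie Cfsg.Agent.Lib.Chev

/-- The order polynomial without its `p`-part. -/
def orderPoly (q : ℕ) : ℕ := (q ^ 2 - 1) * (q ^ 5 - 1) * (q ^ 6 - 1) * (q ^ 8 - 1) * (q ^ 9 - 1) * (q ^ 12 - 1)

/-- The same as an integer polynomial. -/
def orderZ (x : ℤ) : ℤ := (x ^ 2 - 1) * (x ^ 5 - 1) * (x ^ 6 - 1) * (x ^ 8 - 1) * (x ^ 9 - 1) * (x ^ 12 - 1)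

/-- The candidate degree. -/
def degZ (j : ℕ) (x : ℤ) : ℤ := x * (x ^ 6 + x ^ 3 + 1) * (x ^ 4 + 1) - j

/-- Evaluation of a coefficient list. -/
def evL : List ℤ → ℤ → ℤ
  | [], _ => 0
  | a :: L, x => a + x * evL L x

/-- The checks for small field orders. -/
def chkSmall (j B : ℕ) : Bool :=
  allN B fun q => Nat.blt q 7 || !Nat.beq (j * orderPoly q % (target q - j)) 0

/-- The low coefficients are small against `B`. -/
def chkCoef (B : ℕ) : List ℤ → Bool
  | [] => true
  | a :: L => Nat.ble a.natAbs (B ^ (L.length + 1)) && chkCoef B L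

theorem abs_evL {B : ℕ} : ∀ {L : List ℤ}, chkCoef B L = true → ∀ {x : ℤ}, (B : ℤ) ≤ x →
    |evL L x| ≤ L.length * x ^ L.length
  | [], _, x, _ => by simp [evL]
  | a :: L, h, x, hx => by
    simp only [chkCoef, Bool.and_eq_true, Nat.ble_eq] at h
    have hB : (0 : ℤ) ≤ (B : ℤ) := Int.natCast_nonneg B
    have hx0 : (0 : ℤ) ≤ x := hB.trans hx
    have ih := abs_evL h.2 hx
    have h1 : |a| ≤ x ^ (L.length + 1) := by
      refine le_trans ?_ (pow_le_pow_left₀ hB hx _)
      rw [← Int.natCast_natAbs]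
      exact_mod_cast h.1
    calc |evL (a :: L) x| ≤ |a| + |x * evL L x| := abs_add_le _ _
      _ ≤ x ^ (L.length + 1) + x * (L.length * x ^ L.length) := by
          rw [abs_mul, abs_of_nonneg hx0]
          exact add_le_add h1 (mul_le_mul_of_nonneg_left ih hx0)
      _ = ((a :: L).length : ℤ) * x ^ (a :: L).length := by
          simp only [List.length_cons, Nat.cast_add, Nat.cast_one]; ring

theorem excl (j B : ℕ) (Q L : List ℤ) (r : ℤ) (hj : 0 < j) (hB : j * (r.natAbs + 10) + 2 ≤ B)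
    (hlen : L.length = 10 ∧ 10 < r.natAbs) (hL : chkCoef B L = true)
    (hid : ∀ x : ℤ, orderZ x = evL Q x * degZ j x + evL (L ++ [r]) x)
    (hsmall : chkSmall j B = true) {q : ℕ} (hq : 7 ≤ q) : ¬(target q - j ∣ j * orderPoly q) := by
  intro hdvd
  rcases (show q < B ∨ B ≤ q from Nat.lt_or_ge q B) with h | h
  · have := allN_iff.1 hsmall q h
    simp only [Bool.or_eq_true, Nat.blt_eq, Bool.not_eq_true', natBeq_eq, decide_eq_false_iff_not] at this
    rcases this with e | e
    · omega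
    · exact e (Nat.mod_eq_zero_of_dvd hdvd)
  set x : ℤ := (q : ℤ) with hx
  have hxB : (B : ℤ) ≤ x := by rw [hx]; exact_mod_cast h
  have hx1 : (1 : ℤ) ≤ x := by rw [hx]; exact_mod_cast (show 1 ≤ q by omega)
  have hjt : j ≤ target q := by
    have h1 : j ≤ B := le_trans (le_trans (Nat.le_mul_of_pos_right j (by omega)) (Nat.le_add_right _ 2)) hB
    have h2 : q ≤ target q := le_trans (Nat.le_mul_of_pos_right q (by positivity)) (Nat.le_mul_of_pos_right _ (by positivity))
    omega
  have hz : degZ j x ∣ (j : ℤ) * orderZ x := by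
    have h0 : ((target q - j : ℕ) : ℤ) ∣ ((j * orderPoly q : ℕ) : ℤ) := Int.natCast_dvd_natCast.2 hdvd
    rw [Nat.cast_sub hjt] at h0
    simp only [orderPoly, target, Nat.cast_mul, Nat.cast_sub (Nat.one_le_pow _ q (by omega)), Nat.cast_pow,
      Nat.cast_one, Nat.cast_add] at h0
    exact h0
  have hlast : ∀ L : List ℤ, evL (L ++ [r]) x = evL L x + x ^ L.length * r := by
    intro L
    induction L with
    | nil => simp [evL]
    | cons a L ih => simp only [List.cons_append, evL, ih, List.length_cons, pow_succ]; ring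
  set R := evL (L ++ [r]) x with hR
  have hsplit : R = evL L x + x ^ 10 * r := by rw [hR, hlast, hlen.1]
  have hb := abs_le.1 (abs_evL hL hxB)
  rw [hlen.1] at hb
  have h2 : degZ j x ∣ (j : ℤ) * R := by
    have : (j : ℤ) * R = (j : ℤ) * orderZ x - degZ j x * ((j : ℤ) * evL Q x) := by rw [hid, hR]; ring
    rw [this]
    exact dvd_sub hz (dvd_mul_right _ _)
  have hp : (0 : ℤ) < x ^ 10 := by positivity
  have hr : (10 : ℤ) < |r| := by rw [← Int.natCast_natAbs]; exact_mod_cast hlen.2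
  have hRabs : |R| ≤ (|r| + 10) * x ^ 10 := by
    rw [hsplit]
    refine (abs_add_le _ _).trans ?_
    rw [abs_mul, abs_of_pos hp]
    have : |evL L x| ≤ 10 * x ^ 10 := abs_le.2 (by push_cast at hb; exact hb)
    nlinarith
  have hR0 : R ≠ 0 := by
    intro e
    have h1 : |x ^ 10 * r| ≤ 10 * x ^ 10 := by
      rw [show x ^ 10 * r = -evL L x by linarith [hsplit ▸ e], abs_neg]
      exact abs_le.2 (by push_cast at hb; exact hb)
    rw [abs_mul, abs_of_pos hp] at h1
    nlinarith
  have hbig : (j : ℤ) * (|r| + 10) + 2 ≤ x := by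
    refine le_trans ?_ hxB
    rw [← Int.natCast_natAbs]
    exact_mod_cast hB
  have hlt : |(j : ℤ) * R| < degZ j x := by
    rw [abs_mul, abs_of_nonneg (Int.natCast_nonneg j)]
    have h1 : (j : ℤ) * |R| ≤ (j : ℤ) * ((|r| + 10) * x ^ 10) := mul_le_mul_of_nonneg_left hRabs (Int.natCast_nonneg j)
    have h3 : (j : ℤ) * ((|r| + 10) * x ^ 10) ≤ (x - 2) * x ^ 10 := by
      rw [← mul_assoc]; exact mul_le_mul_of_nonneg_right (by linarith) hp.le
    have h4 : degZ j x = x ^ 11 + x ^ 8 + x ^ 7 + x ^ 5 + x ^ 4 + x - j := by unfold degZ; ring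
    have h5 : (x - 2) * x ^ 10 = x ^ 11 - 2 * x ^ 10 := by ring
    have hpx : x ≤ x ^ 10 := le_self_pow₀ hx1 (by norm_num)
    have hj' : (j : ℤ) ≤ x := by nlinarith [abs_nonneg r]
    have : 0 ≤ x ^ 8 ∧ 0 ≤ x ^ 7 ∧ 0 ≤ x ^ 5 ∧ 0 ≤ x ^ 4 := ⟨by positivity, by positivity, by positivity, by positivity⟩
    linarith
  exact mul_ne_zero (by exact_mod_cast hj.ne') hR0 (Int.eq_zero_of_abs_lt_dvd h2 hlt)

theorem excl1 {q : ℕ} (hq : 7 ≤ q) : ¬(target q - 1 ∣ 1 * orderPoly q) :=
  excl 1 39 [-27, -15, 4, 10, 19, 11, 6, -3, -9, -8, -5, -2, 2, 6, 3, 3, -1, -1, -3, -3, 0, 0, 1, 2, 2, 0, 0, -1, -1, -1, 0, 1]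
    [-26, 12, 18, 6, 36, 33, 5, 5, 7, -19] (-27) (by norm_num) (by norm_num) (by decide) (by decide) (fun x => by simp only [evL, orderZ, degZ, List.cons_append, List.nil_append]; ring)
    (by decide +kernel) hq

theorem excl2 {q : ℕ} (hq : 7 ≤ q) : ¬(target q - 2 ∣ 2 * orderPoly q) :=
  excl 2 188 [-58, -17, 29, 31, 42, 16, 4, -10, -19, -14, -9, -1, 6, 11, 5, 4, -3, -3, -4, -3, 1, 0, 1, 2, 2, 0, 0, -1, -1, -1, 0, 1]
    [-115, 24, 74, 33, 111, 64, -21, -25, -26, -80] (-83) (by norm_num) (by norm_num) (by decide) (by decide) (fun x => by simp only [evL, orderZ, degZ, List.cons_append, List.nil_append]; ring)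
    (by decide +kernel) hq

theorem excl3 {q : ℕ} (hq : 7 ≤ q) : ¬(target q - 3 ∣ 3 * orderPoly q) :=
  excl 3 533 [-93, -7, 74, 62, 69, 15, -4, -19, -29, -18, -13, 0, 10, 16, 7, 5, -5, -5, -5, -3, 2, 0, 1, 2, 2, 0, 0, -1, -1, -1, 0, 1]
    [-278, 72, 228, 112, 238, 75, -95, -95, -99, -177] (-167) (by norm_num) (by norm_num) (by decide) (by decide) (fun x => by simp only [evL, orderZ, degZ, List.cons_append, List.nil_append]; ring)
    (by decide +kernel) hq

theorem excl4 {q : ℕ} (hq : 7 ≤ q) : ¬(target q - 4 ∣ 4 * orderPoly q) :=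
  excl 4 1158 [-132, 15, 139, 103, 100, 8, -18, -30, -39, -20, -17, 1, 14, 21, 9, 6, -7, -7, -6, -3, 3, 0, 1, 2, 2, 0, 0, -1, -1, -1, 0, 1]
    [-527, 192, 540, 273, 429, 48, -235, -211, -212, -304] (-279) (by norm_num) (by norm_num) (by decide) (by decide) (fun x => by simp only [evL, orderZ, degZ, List.cons_append, List.nil_append]; ring)
    (by decide +kernel) hq

theorem excl5 {q : ℕ} (hq : 7 ≤ q) : ¬(target q - 5 ∣ 5 * orderPoly q) :=
  excl 5 2147 [-175, 49, 224, 154, 135, -5, -38, -43, -49, -20, -21, 2, 18, 26, 11, 7, -9, -9, -7, -3, 4, 0, 1, 2, 2, 0, 0, -1, -1, -1, 0, 1]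
    [-874, 420, 1070, 546, 696, -35, -459, -379, -365, -455] (-419) (by norm_num) (by norm_num) (by decide) (by decide) (fun x => by simp only [evL, orderZ, degZ, List.cons_append, List.nil_append]; ring)
    (by decide +kernel) hq

theorem excl6 {q : ℕ} (hq : 7 ≤ q) : ¬(target q - 6 ∣ 6 * orderPoly q) :=
  excl 6 3584 [-222, 95, 329, 215, 174, -24, -64, -58, -59, -18, -25, 3, 22, 31, 13, 8, -11, -11, -8, -3, 5, 0, 1, 2, 2, 0, 0, -1, -1, -1, 0, 1]
    [-1331, 792, 1878, 961, 1051, -192, -785, -605, -558, -624] (-587) (by norm_num) (by norm_num) (by decide) (by decide) (fun x => by simp only [evL, orderZ, degZ, List.cons_append, List.nil_append]; ring)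
    (by decide +kernel) hq

/-- The checks at the smallest field orders. -/
theorem small_ok : ([2, 3, 4, 5].all fun q => allN 7 fun j => Nat.beq j 0 || (q == 2 && j == 2) || (q == 4 && j == 4) ||
    !Nat.beq (q ^ 36 * orderPoly q % (target q - j)) 0) = true := by decide +kernel

/-- A degree below the bound dividing the order is one of the two exceptions. -/
theorem exceptions {q d m : ℕ} (hq : IsPrimePow q) (hm : m ∣ q ^ 36 * orderPoly q) (hd : d ∣ m)
    (hlo : target q ≤ d + 6) (hhi : d < target q) : (q = 2 ∧ d = 2480) ∨ (q = 4 ∧ d = 4277504) := by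
  obtain ⟨p, a, hp, ha, rfl⟩ := hq
  have hp' := hp.nat_prime
  set q := p ^ a
  have hdvd : d ∣ q ^ 36 * orderPoly q := hd.trans hm
  obtain ⟨j, hj1, hj6, rfl⟩ : ∃ j, 1 ≤ j ∧ j ≤ 6 ∧ d = target q - j := ⟨target q - d, by omega, by omega, by omega⟩
  have hq2 : 2 ≤ q := le_trans hp'.two_le (Nat.le_self_pow ha.ne' p)
  rcases Nat.lt_or_ge q 7 with hs | hs
  · have h6 : q ≠ 6 := fun e => by
      have : IsPrimePow (6 : ℕ) := e ▸ ⟨p, a, hp, ha, rfl⟩
      exact absurd this (by
        rw [isPrimePow_nat_iff_bounded]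
        decide)
    have hmem : q ∈ [2, 3, 4, 5] := by simp; omega
    have := allN_iff.1 (List.all_eq_true.1 small_ok q hmem) j (by omega)
    simp only [Bool.or_eq_true, natBeq_eq, decide_eq_true_eq, Bool.and_eq_true, beq_iff_eq, Bool.not_eq_true',
      decide_eq_false_iff_not] at this
    rcases this with ((e | ⟨e1, e2⟩) | ⟨e1, e2⟩) | e
    · omega
    · exact Or.inl ⟨e1, by rw [e1, e2]; rfl⟩
    · exact Or.inr ⟨e1, by rw [e1, e2]; rfl⟩
    · exact absurd (Nat.mod_eq_zero_of_dvd hdvd) e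
  · exfalso
    have hg : Nat.gcd (target q - j) (q ^ 36) ∣ j := by
      have h1 : Nat.gcd (target q - j) (q ^ 36) ∣ p ^ (a * 36) := by
        rw [pow_mul]; exact Nat.gcd_dvd_right _ _
      obtain ⟨k, hk, e⟩ := (Nat.dvd_prime_pow hp').1 h1
      have hqt : q ∣ target q := ⟨(q ^ 6 + q ^ 3 + 1) * (q ^ 4 + 1), by rw [target]; ring⟩
      have hjt : j ≤ target q := by
        have : q ≤ target q := Nat.le_of_dvd (by unfold target; positivity) hqt
        omega
      by_cases hka : a ≤ k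
      · exfalso
        have h2 : q ∣ target q - j := (pow_dvd_pow p hka).trans (e ▸ Nat.gcd_dvd_left _ _)
        have h3 := Nat.dvd_sub hqt h2
        rw [show target q - (target q - j) = j by omega] at h3
        exact absurd (Nat.le_of_dvd (by omega) h3) (by omega)
      · rw [e]
        have h2 : p ^ k ∣ q := pow_dvd_pow p (by omega)
        have h3 : p ^ k ∣ target q - j := e ▸ Nat.gcd_dvd_left _ _
        have h4 := Nat.dvd_sub (h2.trans hqt) h3
        rwa [show target q - (target q - j) = j by omega] at h4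
    have hfin : target q - j ∣ j * orderPoly q :=
      (Nat.dvd_gcd (Dvd.intro _ rfl) hdvd).trans (by
        rw [Nat.gcd_mul_right]; exact Nat.mul_dvd_mul_right hg _)
    interval_cases j
    · exact excl1 hs hfin
    · exact excl2 hs hfin
    · exact excl3 hs hfin
    · exact excl4 hs hfin
    · exact excl5 hs hfin
    · exact excl6 hs hfin

end Cfsg.Agent.Lib.E6Deg41
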