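import Cfsg.Agent.Lib.ChevOver.Basic
import Cfsg.Agent.Lib.Chev.Bruhat

/-!
Simply laced data: the effect of root elements on simultaneous eigenvectors of root subgroups.
-/

set_option autoImplicit false

namespace Cfsg.Agent.Lib.E6Deg41

open Cfsg.Lie Cfsg.Agent.Lib.Chev Cfsg.Agent.Lib.ChevOver

/-- The sum of two different roots, if it is a root. -/
def sm (C : Cert) (r s : ℕ) : Option ℕ :=
  bif Nat.beq r s then none else (cTerms C r s).head?.map Prod.fst

/-- The structure constant. -/
def Nc (C : Cert) (r s : ℕ) : ℤ := ((cTerms C r s).head?.map fun c => c.2.1).getD 0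

/-- One commutator of a simply laced datum. -/
def oneTerm (D : ChevalleyDatum) : List (ℕ × ℤ × ℕ × ℕ) → Bool
  | [] => true
  | [(a, M, 1, 1)] => Nat.blt a D.nroots && (decide (M = 1) || decide (M = -1))
  | _ => false

/-- All commutators are those of a simply laced datum. -/
def chkLac (D : ChevalleyDatum) (C : Cert) : Bool :=
  allN D.nroots fun r => allN D.nroots fun s => Nat.beq r s || Nat.beq s (ng D r) || oneTerm D (cTerms C r s)

/-- A simply laced datum with a character of the field. -/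
structure Setup (D : ChevalleyDatum) (C : Cert) (F : Type*) [Field F] where
  hh : Rooted D C
  lac : chkLac D C = true
  psi : AddChar F ℂ
  psi_ne : psi 1 ≠ 1

variable {D : ChevalleyDatum} {C : Cert} {F : Type*} [Field F] (X : Setup D C F)

namespace Setup

/-- The root element of the group. -/
def x (r : ℕ) (t : F) : ↥(D.group F) := ⟨xg X.hh r t, xg_mem_group X.hh r t⟩

theorem x_add (r : ℕ) (s t : F) : X.x r (s + t) = X.x r s * X.x r t := Subtype.ext (xg_add X.hh r s t).symm

theorem x_zero (r : ℕ) : X.x r 0 = 1 := Subtype.ext (xg_zero X.hh r)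

include X in
theorem terms {r s : ℕ} (hr : r < D.nroots) (hs : s < D.nroots) (h1 : r ≠ s) (h2 : s ≠ ng D r) :
    (sm C r s = none ∧ cTerms C r s = []) ∨
      ∃ a, sm C r s = some a ∧ a < D.nroots ∧ (Nc C r s = 1 ∨ Nc C r s = -1) ∧
        cTerms C r s = [(a, Nc C r s, 1, 1)] := by
  have hb := X.lac
  simp only [chkLac, allN_iff, Bool.or_eq_true, natBeq_eq, decide_eq_true_eq] at hb
  rcases hb r hr s hs with (e | e) | e
  · exact absurd e h1
  · exact absurd e h2
  · have hne : Nat.beq r s = false := by simpa [natBeq_eq] using h1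
    unfold oneTerm at e
    split at e
    · next h => exact Or.inl ⟨by simp [sm, hne, h], h⟩
    · next a M h =>
      simp only [Bool.and_eq_true, Nat.blt_eq, Bool.or_eq_true, decide_eq_true_eq] at e
      exact Or.inr ⟨a, by simp [sm, hne, h], e.1, by simpa [Nc, h] using e.2, by simp [Nc, h]⟩
    · cases e

theorem swap_none {η r : ℕ} (hη : η < D.nroots) (hr : r < D.nroots) (h2 : r ≠ ng D η) (h : sm C η r = none)
    (t u : F) : X.x r u * X.x η t = X.x η t * X.x r u := by
  by_cases h1 : η = r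
  · subst h1; rw [← X.x_add, ← X.x_add, add_comm]
  rcases X.terms hη hr h1 h2 with ⟨-, e⟩ | ⟨a, e, -⟩
  · exact Subtype.ext (xg_commute X.hh hη hr h2 e t u).eq.symm
  · rw [h] at e; cases e

theorem swap_some {η r a : ℕ} (hη : η < D.nroots) (hr : r < D.nroots) (h2 : r ≠ ng D η) (h : sm C η r = some a)
    (t u : F) : X.x r u * X.x η t = X.x η t * X.x r u * X.x a ((Nc C η r : F) * (-t) * u) := by
  have h1 : η ≠ r := fun e => by subst e; simp [sm] at h
  rcases X.terms hη hr h1 h2 with ⟨e, -⟩ | ⟨b, e, -, -, hl⟩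
  · rw [h] at e; cases e
  · rw [h] at e
    obtain rfl : a = b := Option.some.inj e
    refine Subtype.ext ((xg_comm_one X.hh hη hr (Ne.symm h1) h2 hl t u).trans ?_)
    simp [x]

include X in
theorem Nc_unit {η r a : ℕ} (hη : η < D.nroots) (hr : r < D.nroots) (h2 : r ≠ ng D η) (h : sm C η r = some a) :
    ((Nc C η r : F) = 1 ∨ (Nc C η r : F) = -1) ∧ (Nc C η r : F) ≠ 0 := by
  have h1 : η ≠ r := fun e => by subst e; simp [sm] at h
  rcases X.terms hη hr h1 h2 with ⟨e, -⟩ | ⟨b, -, -, hN, -⟩
  · rw [h] at e; cases e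
  · rcases hN with e | e <;> simp [e]

variable {V : Type*} [AddCommGroup V] [Module ℂ V] (π : ↥(D.group F) →* Module.End ℂ V)

omit X in
theorem act_mul (g h : ↥(D.group F)) (v : V) : π (g * h) v = π g (π h v) := by
  rw [map_mul]; rfl

omit X in
theorem act_injective (g : ↥(D.group F)) : Function.Injective (π g) := fun v w e => by
  have := congrArg (π g⁻¹) e
  rwa [← act_mul, ← act_mul, inv_mul_cancel, map_one] at this

/-- An eigenvector of a root subgroup. -/
def Eig (r : ℕ) (c : F) (v : V) : Prop := ∀ t, π (X.x r t) v = X.psi (c * t) • v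

theorem eig_zero_iff {r : ℕ} {v : V} : X.Eig π r 0 v ↔ ∀ t, π (X.x r t) v = v := by
  simp [Eig]

theorem eig_shift {η r a : ℕ} {c d : F} {v : V} (hη : η < D.nroots) (hr : r < D.nroots) (h2 : r ≠ ng D η)
    (h : sm C η r = some a) (hv : X.Eig π r c v) (ha : X.Eig π a d v) (t : F) :
    X.Eig π r (c - (Nc C η r : F) * t * d) (π (X.x η t) v) := fun u => by
  rw [← act_mul, X.swap_some hη hr h2 h, act_mul, ha, map_smul, act_mul, hv, map_smul, smul_smul,
    ← AddChar.map_add_eq_mul]
  congr 2
  ring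

theorem eig_keep {η r : ℕ} {c : F} {v : V} (hη : η < D.nroots) (hr : r < D.nroots) (h2 : r ≠ ng D η)
    (hv : X.Eig π r c v) (h : ∀ a, sm C η r = some a → X.Eig π a 0 v) (t : F) :
    X.Eig π r c (π (X.x η t) v) := by
  rcases hs : sm C η r with _ | a
  · intro u
    rw [← act_mul, X.swap_none hη hr h2 hs, act_mul, hv, map_smul]
  · simpa using X.eig_shift π hη hr h2 hs hv (h a hs) t

/-- Simultaneous eigenvectors. -/
def Es (L : List ℕ) (m : ℕ → F) : Submodule ℂ V where
  carrier := {v | ∀ r ∈ L, X.Eig π r (m r) v}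
  add_mem' h1 h2 r hr t := by rw [map_add, h1 r hr, h2 r hr, smul_add]
  zero_mem' r _ t := by simp
  smul_mem' c v h r hr t := by rw [map_smul, h r hr, smul_comm]

theorem mem_Es {L : List ℕ} {m : ℕ → F} {v : V} : v ∈ X.Es π L m ↔ ∀ r ∈ L, X.Eig π r (m r) v := Iff.rfl

omit X in
/-- An element mapping one subspace into another compares their dimensions. -/
theorem finrank_le_of_map [FiniteDimensional ℂ V] (g : ↥(D.group F)) {W W' : Submodule ℂ V}
    (h : ∀ v ∈ W, π g v ∈ W') : Module.finrank ℂ W ≤ Module.finrank ℂ W' :=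
  LinearMap.finrank_le_finrank_of_injective (f := (π g).restrict h) fun _ _ e =>
    Subtype.ext (act_injective π g (congrArg Subtype.val e))

/-! ### Averaging -/

variable [Fintype F]

/-- The projection to a character of one root subgroup. -/
noncomputable def e (r : ℕ) (c : F) : Module.End ℂ V :=
  (Fintype.card F : ℂ)⁻¹ • ∑ t : F, X.psi (-(c * t)) • π (X.x r t)

theorem e_apply (r : ℕ) (c : F) (v : V) :
    X.e π r c v = (Fintype.card F : ℂ)⁻¹ • ∑ t : F, X.psi (-(c * t)) • π (X.x r t) v := by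
  simp [e, LinearMap.sum_apply]

theorem psi_sum [DecidableEq F] (b : F) :
    ∑ t : F, X.psi (b * t) = if b = 0 then (Fintype.card F : ℂ) else 0 := by
  have hne : X.psi ≠ 1 := fun e => X.psi_ne (by rw [e]; rfl)
  have h := AddChar.sum_mulShift (ψ := X.psi) b (AddChar.IsPrimitive.of_ne_one hne)
  simp only [mul_comm _ b] at h
  rw [h]; split_ifs <;> simp

theorem e_eig (r : ℕ) (c : F) (v : V) : X.Eig π r c (X.e π r c v) := fun u => by
  rw [e_apply, map_smul, map_sum, smul_comm (X.psi (c * u))]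
  congr 1
  rw [Finset.smul_sum]
  refine Fintype.sum_equiv (Equiv.addLeft u) _ _ fun t => ?_
  rw [map_smul, ← act_mul, ← X.x_add, Equiv.coe_addLeft, smul_smul, ← AddChar.map_add_eq_mul]
  congr 2
  ring

theorem sum_e (r : ℕ) (v : V) : ∑ c : F, X.e π r c v = v := by
  classical
  simp only [e_apply]
  rw [← Finset.smul_sum, Finset.sum_comm]
  have : ∀ t : F, ∑ c : F, X.psi (-(c * t)) • π (X.x r t) v =
      if t = 0 then (Fintype.card F : ℂ) • v else 0 := fun t => by
    rw [← Finset.sum_smul]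
    have h := X.psi_sum (-t)
    rw [Finset.sum_congr rfl (fun c _ => by rw [show -(c * t) = -t * c by ring]), h]
    by_cases ht : t = 0
    · subst ht; simp [X.x_zero]
    · simp [ht]
  simp only [this, Finset.sum_ite_eq', Finset.mem_univ, if_true]
  rw [smul_smul, inv_mul_cancel₀ (Nat.cast_ne_zero.2 Fintype.card_ne_zero), one_smul]

theorem e_of_eig [DecidableEq F] {r : ℕ} {m : F} {v : V} (hv : X.Eig π r m v) (c : F) :
    X.e π r c v = if c = m then v else 0 := by
  rw [e_apply]
  have : ∀ t : F, X.psi (-(c * t)) • π (X.x r t) v = X.psi ((m - c) * t) • v := fun t => by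
    rw [hv, smul_smul, ← AddChar.map_add_eq_mul]
    congr 2
    ring
  rw [Finset.sum_congr rfl fun t _ => this t, ← Finset.sum_smul, X.psi_sum, smul_smul]
  by_cases h : c = m
  · subst h
    rw [if_pos (sub_self c), if_pos rfl, inv_mul_cancel₀ (Nat.cast_ne_zero.2 Fintype.card_ne_zero), one_smul]
  · rw [if_neg (sub_ne_zero.2 (Ne.symm h)), if_neg h, mul_zero, zero_smul]

theorem e_mem {W : Submodule ℂ V} {r : ℕ} (c : F) {v : V} (h : ∀ t, π (X.x r t) v ∈ W) : X.e π r c v ∈ W := by
  rw [e_apply]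
  exact W.smul_mem _ (W.sum_mem fun t _ => W.smul_mem _ (h t))

/-- Averaging keeps an eigenvector. -/
theorem e_keep {η r : ℕ} {c : F} {v : V} (hη : η < D.nroots) (hr : r < D.nroots) (h2 : r ≠ ng D η)
    (hv : X.Eig π r c v) (h : ∀ a, sm C η r = some a → X.Eig π a 0 v) (d : F) :
    X.Eig π r c (X.e π η d v) := by
  have := X.e_mem π (W := X.Es π [r] fun _ => c) d (r := η) (v := v) fun t s hs => by
    rw [List.mem_singleton] at hs; subst hs
    exact X.eig_keep π hη hr h2 hv h t
  exact this r (List.mem_singleton.2 rfl)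

theorem exists_component {r : ℕ} {v : V} (hv : v ≠ 0) : ∃ c, X.e π r c v ≠ 0 := by
  by_contra hcon
  push Not at hcon
  exact hv (by rw [← X.sum_e π r v]; exact Finset.sum_eq_zero fun c _ => hcon c)

theorem exists_component_ne {r : ℕ} {v : V} (hv : ¬X.Eig π r 0 v) : ∃ c, c ≠ 0 ∧ X.e π r c v ≠ 0 := by
  by_contra hcon
  push Not at hcon
  refine hv ?_
  have h := X.sum_e π r v
  rw [Finset.sum_eq_single 0 (fun c _ hc => hcon c hc) (fun h => absurd (Finset.mem_univ _) h)] at h
  rw [← h]
  exact X.e_eig π r 0 v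

end Setup

end Cfsg.Agent.Lib.E6Deg41
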