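import Cfsg.Agent.Lib.E6Deg41.Certs

/-!
The centraliser of a root element has order divisible by `q⁵ - 1`'s orbit.
-/

set_option autoImplicit false

namespace Cfsg.Agent.Lib.E6Deg41

open Cfsg.Lie Cfsg.Agent.Lib.Chev Cfsg.Agent.Lib.ChevOver
open scoped Matrix

/-- The roots orthogonal to the highest root which preserve the residual roots. -/
def resGens : List ℕ := List.range' 26 20

theorem res_entries : (resGens.all fun η => Nat.blt η 72 && (sm E η 71).isNone && !Nat.beq 71 (ng chevE6 η) &&
    allN 5 fun c => allN 78 fun y =>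
      decide (entK chevE6 E η y (56 + c) 0 = if 56 + c = y then 1 else 0) &&
      decide (entK chevE6 E η y (56 + c) 2 = 0) && decide (entK chevE6 E η y (56 + c) 3 = 0) &&
      (if sm E η (56 + c) = some y then decide (entK chevE6 E η y (56 + c) 1 = 1) || decide (entK chevE6 E η y (56 + c) 1 = -1)
        else decide (entK chevE6 E η y (56 + c) 1 = 0))) = true := by decide +kernel

theorem res_gens : (allN 5 fun a => allN 5 fun b => Nat.beq a b || resGens.any fun η =>
    decide (sm E η (56 + b) = some (56 + a)) && allN 5 fun c => Nat.beq c b || (sm E η (56 + c)).isNone) = true := by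
  decide +kernel

theorem res_closed : (resGens.all fun η => allN 5 fun c =>
    match sm E η (56 + c) with
    | none => true
    | some y => decide (56 ≤ y ∧ y < 61)) = true := by decide +kernel

variable {F : Type*} [Field F] (X : Setup chevE6 E F)

namespace Setup

/-- The vector with given residual coordinates. -/
def vec (f : Fin 5 → F) : chevE6.Idx → F := ∑ i : Fin 5, f i • bv chevE6 F (56 + i.val)

omit X in
theorem co_vec (f : Fin 5 → F) {y : ℕ} (hy : y < 78) :
    co (vec f) y = ∑ i : Fin 5, if 56 + i.val = y then f i else 0 := by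
  have hadd : ∀ s : Finset (Fin 5), co (∑ i ∈ s, f i • bv chevE6 F (56 + i.val)) y =
      ∑ i ∈ s, if 56 + i.val = y then f i else 0 := by
    intro s
    induction s using Finset.induction_on with
    | empty => simp [co]
    | insert a s ha ih =>
      rw [Finset.sum_insert ha, Finset.sum_insert ha, co_add, co_smul, ih, co_bv (show y < chevE6.nroots + chevE6.rank from hy)]
      split_ifs <;> simp
  exact hadd _

omit X in
theorem co_vec_res (f : Fin 5 → F) (i : Fin 5) : co (vec f) (56 + i.val) = f i := by
  rw [co_vec f (by omega), Finset.sum_eq_single i]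
  · simp
  · intro j _ hj
    rw [if_neg]
    exact fun e => hj (Fin.ext (by omega))
  · simp

omit X in
theorem vec_injective : Function.Injective (vec (F := F)) := fun f g e =>
  funext fun i => by rw [← co_vec_res f i, ← co_vec_res g i, e]

/-- Moving one residual coordinate. -/
theorem vec_move {a b : Fin 5} (hab : a ≠ b) (s : F) :
    ∃ η ∈ resGens, ∃ t : F, ∀ f : Fin 5 → F,
      ((X.x η t : GL chevE6.Idx F).val *ᵥ vec f) = vec (Function.update f a (f a + s * f b)) := by
  classical
  have hg := allN_iff.1 (allN_iff.1 res_gens a.val a.2) b.val b.2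
  simp only [Bool.or_eq_true, natBeq_eq, decide_eq_true_eq, List.any_eq_true, Bool.and_eq_true, allN_iff,
    Option.isNone_iff_eq_none] at hg
  rcases hg with e | ⟨η, hη, hsm, hoth⟩
  · exact absurd (Fin.ext e) hab
  have he := List.all_eq_true.1 res_entries η hη
  simp only [Bool.and_eq_true, allN_iff, Nat.blt_eq] at he
  obtain ⟨⟨⟨hη72, -⟩, -⟩, hent⟩ := he
  have h1 := (hent b.val b.2 (56 + a.val) (by omega)).2
  rw [if_pos hsm, Bool.or_eq_true, decide_eq_true_eq, decide_eq_true_eq] at h1
  set N : F := ((entK chevE6 E η (56 + a.val) (56 + b.val) 1 : ℤ) : F) with hN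
  have hNN : N * N = 1 := by rcases h1 with e | e <;> simp [hN, e]
  refine ⟨η, hη, N * s, fun f => co_ext fun y hy => ?_⟩
  change y < 78 at hy
  have hcol : ∀ c : Fin 5, co ((xg X.hh η (N * s)).val *ᵥ bv chevE6 F (56 + c.val)) y =
      (if 56 + c.val = y then 1 else 0) + (if c = b ∧ 56 + a.val = y then s else 0) := by
    intro c
    rw [co_x_bv X.hh (show η < chevE6.nroots from hη72) (show 56 + c.val < chevE6.nroots + chevE6.rank by
      show 56 + c.val < 72 + 6; omega) (show y < chevE6.nroots + chevE6.rank from hy)]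
    obtain ⟨⟨⟨e0, e2⟩, e3⟩, e1⟩ := hent c.val c.2 y hy
    rw [decide_eq_true_eq] at e0 e2 e3
    have e1' : ((entK chevE6 E η y (56 + c.val) 1 : ℤ) : F) = if c = b ∧ 56 + a.val = y then N else 0 := by
      by_cases hc : c = b
      · subst hc
        by_cases hy' : 56 + a.val = y
        · subst hy'; simp [hN]
        · rw [if_neg (show ¬(sm E η (56 + c.val) = some y) by rw [hsm]; simpa using hy'), decide_eq_true_eq] at e1
          simp [e1, hy']
      · rcases hoth c.val c.2 with e | e
        · exact absurd (Fin.ext e) hc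
        · rw [if_neg (show ¬(sm E η (56 + c.val) = some y) by rw [e]; simp), decide_eq_true_eq] at e1
          simp [e1, hc]
    simp only [Finset.sum_range_succ, Finset.sum_range_zero, e0, e2, e3, e1']
    split_ifs <;> simp [mul_right_comm N s N, hNN]
  rw [show (X.x η (N * s) : GL chevE6.Idx F) = xg X.hh η (N * s) from rfl]
  rw [co_vec _ hy, vec, Matrix.mulVec_sum]
  have hsum : ∀ t : Finset (Fin 5), co (∑ i ∈ t, (xg X.hh η (N * s)).val *ᵥ (f i • bv chevE6 F (56 + i.val))) y =
      ∑ i ∈ t, f i * ((if 56 + i.val = y then 1 else 0) + (if i = b ∧ 56 + a.val = y then s else 0)) := by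
    intro t
    induction t using Finset.induction_on with
    | empty => simp [co]
    | insert i t ht ih =>
      rw [Finset.sum_insert ht, Finset.sum_insert ht, co_add, ih, Matrix.mulVec_smul, co_smul, hcol]
  rw [hsum]
  simp only [Function.update_apply, mul_add, Finset.sum_add_distrib, mul_ite, mul_one, mul_zero]
  by_cases hy' : 56 + a.val = y
  · subst hy'
    simp only [and_true, Finset.sum_ite_eq', Finset.mem_univ, if_true]
    rw [Finset.sum_eq_single a, Finset.sum_eq_single a]
    · simp [mul_comm]
    all_goals first | (intro j _ hj; rw [if_neg]; exact fun e => hj (Fin.ext (by omega))) | simp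
  · simp only [hy', and_false, if_false, Finset.sum_const_zero, add_zero]
    refine Finset.sum_congr rfl fun j _ => ?_
    split_ifs with h1 h2
    · exact absurd (h2 ▸ h1) hy'
    · rfl
    · rfl

/-- Every residual generator preserves the residual vectors. -/
theorem vec_stable {η : ℕ} (hη : η ∈ resGens) (t : F) (f : Fin 5 → F) :
    ∃ f' : Fin 5 → F, (X.x η t : GL chevE6.Idx F).val *ᵥ vec f = vec f' := by
  classical
  refine ⟨fun i => co ((xg X.hh η t).val *ᵥ vec f) (56 + i.val), co_ext fun y hy => ?_⟩
  change y < 78 at hy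
  show co ((xg X.hh η t).val *ᵥ vec f) y = _
  rw [co_vec _ hy]
  by_cases hy' : 56 ≤ y ∧ y < 61
  · rw [Finset.sum_eq_single (⟨y - 56, by omega⟩ : Fin 5)]
    · simp [show 56 + (y - 56) = y by omega]
    · intro j _ hj
      rw [if_neg]
      exact fun e => hj (Fin.ext (by dsimp; omega))
    · simp
  · rw [Finset.sum_eq_zero (s := (Finset.univ : Finset (Fin 5))) fun i _ => if_neg (by omega), co_mulVec]
    refine Finset.sum_eq_zero fun c hc => ?_
    have hc' : c < 78 := Finset.mem_range.1 hc
    rw [co_vec f hc']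
    by_cases h : 56 ≤ c ∧ c < 61
    · have he := List.all_eq_true.1 res_entries η hη
      simp only [Bool.and_eq_true, allN_iff, Nat.blt_eq] at he
      obtain ⟨⟨⟨hη72, -⟩, -⟩, hent⟩ := he
      obtain ⟨⟨⟨e0, e2⟩, e3⟩, e1⟩ := hent (c - 56) (by omega) y hy
      rw [show 56 + (c - 56) = c by omega] at e0 e2 e3 e1
      rw [decide_eq_true_eq] at e0 e2 e3
      rw [co_x_bv X.hh (show η < chevE6.nroots from hη72) (Finset.mem_range.1 hc) (show y < chevE6.nroots + chevE6.rank from hy)]
      have hclosed : sm E η c ≠ some y := fun e => hy' (by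
        have := List.all_eq_true.1 res_closed η hη
        have := allN_iff.1 this (c - 56) (by omega)
        rw [show 56 + (c - 56) = c by omega, e] at this
        simpa using this)
      rw [if_neg hclosed, decide_eq_true_eq] at e1
      simp only [Finset.sum_range_succ, Finset.sum_range_zero, e0, e1, e2, e3]
      simp [show c ≠ y by omega]
    · rw [Finset.sum_eq_zero fun i _ => if_neg (by omega), mul_zero]

/-- The group generated by the residual root elements. -/
def resGroup : Subgroup ↥(chevE6.group F) := Subgroup.closure {g | ∃ η ∈ resGens, ∃ t, g = X.x η t}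

theorem resGroup_le : X.resGroup ≤ Subgroup.centralizer {X.x 71 1} := by
  refine (Subgroup.closure_le _).2 ?_
  rintro g ⟨η, hη, t, rfl⟩
  rw [SetLike.mem_coe, Subgroup.mem_centralizer_iff]
  intro h hh
  rw [Set.mem_singleton_iff] at hh
  subst hh
  have he := List.all_eq_true.1 res_entries η hη
  simp only [Bool.and_eq_true, Nat.blt_eq, Option.isNone_iff_eq_none, Bool.not_eq_true', natBeq_eq,
    decide_eq_false_iff_not] at he
  exact X.swap_none (show η < chevE6.nroots from he.1.1.1) (show 71 < chevE6.nroots by decide) he.1.2 he.1.1.2 t 1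

/-- `q⁵ - 1` divides the order of the centraliser. -/
theorem dvd_card_centralizer [Fintype F] :
    Fintype.card F ^ 5 - 1 ∣ Nat.card (Subgroup.centralizer ({X.x 71 1} : Set ↥(chevE6.group F))) := by
  classical
  refine dvd_trans ?_ (Subgroup.card_dvd_of_le X.resGroup_le)
  letI : MulAction ↥X.resGroup (chevE6.Idx → F) :=
    { smul := fun g w => ((g : ↥(chevE6.group F)) : GL chevE6.Idx F).val *ᵥ w
      one_smul := fun w => Matrix.one_mulVec w
      mul_smul := fun g h w => (Matrix.mulVec_mulVec w _ _).symm }
  have hsmul : ∀ (g : ↥X.resGroup) (w : chevE6.Idx → F),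
      g • w = ((g : ↥(chevE6.group F)) : GL chevE6.Idx F).val *ᵥ w := fun _ _ => rfl
  set w0 : chevE6.Idx → F := vec (Pi.single 0 1)
  -- the orbit consists of residual vectors
  have hinv : ∀ g ∈ X.resGroup, ∀ f : Fin 5 → F, ∃ f' : Fin 5 → F,
      (g : GL chevE6.Idx F).val *ᵥ vec f = vec f' := by
    intro g hg
    induction hg using Subgroup.closure_induction_left with
    | one => exact fun f => ⟨f, Matrix.one_mulVec _⟩
    | mul_left x hx y _ ih =>
      obtain ⟨η, hη, t, rfl⟩ := hx
      intro f
      obtain ⟨f', hf'⟩ := ih f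
      obtain ⟨f'', hf''⟩ := X.vec_stable hη t f'
      exact ⟨f'', by rw [Subgroup.coe_mul, Units.val_mul, ← Matrix.mulVec_mulVec, hf', hf'']⟩
    | inv_mul_cancel x hx y _ ih =>
      obtain ⟨η, hη, t, rfl⟩ := hx
      intro f
      obtain ⟨f', hf'⟩ := ih f
      obtain ⟨f'', hf''⟩ := X.vec_stable hη (-t) f'
      refine ⟨f'', ?_⟩
      rw [show (X.x η t)⁻¹ = X.x η (-t) from inv_eq_of_mul_eq_one_right (by rw [← X.x_add, add_neg_cancel, X.x_zero]),
        Subgroup.coe_mul, Units.val_mul, ← Matrix.mulVec_mulVec, hf', hf'']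
  let Q : (Fin 5 → F) → Prop := fun f => vec f ∈ MulAction.orbit ↥X.resGroup w0
  have step : ∀ {a b : Fin 5}, a ≠ b → ∀ (s : F) (f : Fin 5 → F), Q (Function.update f a (f a + s * f b)) → Q f := by
    intro a b hab s f h
    obtain ⟨η, hη, t, ht⟩ := X.vec_move hab s
    let g : ↥X.resGroup := ⟨X.x η t, Subgroup.subset_closure ⟨η, hη, t, rfl⟩⟩
    show vec f ∈ _
    rw [← inv_smul_smul g (vec f), hsmul g, ht]
    exact (MulAction.smul_orbit g⁻¹ w0) ▸ Set.smul_mem_smul_set h
  have base : Q (Pi.single 0 1) := MulAction.mem_orbit_self w0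
  have clear : ∀ f : Fin 5 → F, f 0 = 1 → Q f := by
    intro f h0
    refine step (show (1 : Fin 5) ≠ 0 by decide) (-(f 1)) f (step (show (2 : Fin 5) ≠ 0 by decide) (-(f 2)) _
      (step (show (3 : Fin 5) ≠ 0 by decide) (-(f 3)) _ (step (show (4 : Fin 5) ≠ 0 by decide) (-(f 4)) _ ?_)))
    convert base using 1
    funext i
    fin_cases i <;> simp [Function.update_apply, h0]
  have all : ∀ f : Fin 5 → F, f ≠ 0 → Q f := by
    intro f hf
    obtain ⟨i, hi⟩ := Function.ne_iff.1 hf
    change f i ≠ 0 at hi
    by_cases h1 : i = 0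
    · subst h1
      refine step (show (1 : Fin 5) ≠ 0 by decide) ((1 - f 1) / f 0) f ?_
      refine step (show (0 : Fin 5) ≠ 1 by decide) (1 - f 0) _ (clear _ ?_)
      simp [Function.update_apply, div_mul_cancel₀ _ hi]
    · refine step (Ne.symm h1) ((1 - f 0) / f i) f (clear _ ?_)
      simp [Function.update_apply, div_mul_cancel₀ _ hi]
  have horb : MulAction.orbit ↥X.resGroup w0 = vec '' {f : Fin 5 → F | f ≠ 0} := by
    ext w
    constructor
    · rintro ⟨g, rfl⟩
      obtain ⟨f', hf'⟩ := hinv g g.2 (Pi.single 0 1)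
      refine ⟨f', fun e => ?_, hf'.symm⟩
      have h0 : vec (Pi.single 0 1 : Fin 5 → F) = 0 := by
        have h1 : g • w0 = 0 := by rw [hsmul, hf', e]; simp [vec]
        have := congrArg (fun w => g⁻¹ • w) h1
        simpa [inv_smul_smul, hsmul] using this
      have := co_vec_res (Pi.single 0 1 : Fin 5 → F) 0
      rw [h0] at this
      simp [co] at this
    · rintro ⟨f, hf, rfl⟩
      exact all f hf
  have hcard : Nat.card ↥(MulAction.orbit ↥X.resGroup w0) = Fintype.card F ^ 5 - 1 := by
    rw [horb, Nat.card_image_of_injective vec_injective]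
    show Nat.card {f : Fin 5 → F // f ≠ 0} = _
    rw [Nat.card_eq_fintype_card, Fintype.card_subtype_compl]
    simp [Fintype.card_pi]
  rw [← hcard, Nat.card_congr (MulAction.orbitEquivQuotientStabilizer ↥X.resGroup w0)]
  exact Subgroup.index_dvd_card _

end Setup

end Cfsg.Agent.Lib.E6Deg41
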