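import Cfsg.Agent.Lib.E6Deg41.Delta
import Cfsg.Agent.Lib.Chev.All
import Cfsg.Agent.Lib.Chev.RootOrbit

/-!
Certificates on the roots of `E₆`.
-/

set_option autoImplicit false

namespace Cfsg.Agent.Lib.E6Deg41

open Cfsg.Lie Cfsg.Agent.Lib.Chev

abbrev E := E6.cert

theorem lac_E6 : chkLac chevE6 E = true := by decide +kernel

/-- The abelian radical. -/
def topA : List ℕ := List.range' 56 16
/-- The highest root and the roots adjacent to it. -/
def topL : List ℕ := List.range' 61 11
/-- The translations of the adjacent roots. -/
def topP : List (ℕ × ℕ) := (List.range 10).map fun i => (70 - i, 46 + i)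
/-- Shifts of the residual roots. -/
def resTab : List (ℕ × ℕ × ℕ × ℕ × ℕ) :=
  [(56, 57, 29, 58, 28), (57, 56, 42, 58, 32), (58, 56, 43, 57, 39), (59, 56, 44, 57, 40), (60, 56, 45, 57, 41)]
/-- The word carrying the highest root to the first fundamental root. -/
def baseW : List ℕ := [2, 3, 4, 5, 1, 3, 4, 2, 3, 1]
/-- The roots stabilising the base character, each with a commutator expression. -/
def baseRep : List (ℕ × ℕ × ℕ) :=
  [(22, 23, 35), (23, 22, 36), (24, 22, 38), (25, 22, 41), (30, 22, 46), (31, 23, 46), (32, 24, 46), (33, 22, 47),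
   (34, 23, 47), (35, 22, 48), (36, 23, 49), (37, 24, 48), (38, 24, 49), (39, 25, 47), (40, 25, 48), (41, 25, 49),
   (42, 22, 52), (43, 22, 54), (44, 22, 55), (45, 23, 55), (46, 30, 49), (47, 33, 49), (48, 35, 49), (49, 36, 48),
   (50, 30, 54), (51, 30, 55), (52, 31, 55), (53, 33, 55), (54, 34, 55), (55, 37, 54)]

theorem isWord_baseW : IsWord chevE6 baseW := fun i hi => by
  have : baseW.all (fun i => Nat.blt i 6) = true := by decide
  show i < 6
  simpa [Nat.blt_eq] using List.all_eq_true.1 this i hi

theorem isWord_baseW_rev : IsWord chevE6 baseW.reverse := fun i hi => isWord_baseW i (List.mem_reverse.1 hi)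

theorem tr_topL : chkTr chevE6 E topL [] 71 [] topP = true := by decide +kernel

theorem tr_topA : chkTr chevE6 E topA [] 71 [] topP = true := by decide +kernel

theorem split_topA : chkSplit chevE6 E [71] topA [] = true := by decide +kernel

theorem split_res : ((List.range' 56 5).all fun r =>
    chkMove chevE6 E r topL [] && chkSplit chevE6 E (topL ++ [r]) topA []) = true := by decide +kernel

theorem res_ok : (resTab.all fun p =>
    chkMove chevE6 E p.2.2.1 topA topA && chkMove chevE6 E p.2.2.2.2 topA topA &&
    topA.all fun r =>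
      (bif Nat.beq r p.2.1 then sm E p.2.2.1 r == some p.1 else into E p.2.2.1 r (List.range' 61 10)) &&
      (bif Nat.beq r p.2.2.2.1 then sm E p.2.2.2.2 r == some p.1 else into E p.2.2.2.2 r (List.range' 61 10)))
    = true := by decide +kernel

theorem res_cover : ((List.range' 56 5).all fun a => resTab.any fun p => Nat.beq p.1 a) = true := by
  decide +kernel

theorem shift_pair : (chkMove chevE6 E 46 topA topA && chkMove chevE6 E 25 topA topA && topA.all fun r =>
    (bif Nat.beq r 70 then sm E 46 r == some 71
      else !(sm E 46 r == some 70) && !(sm E 46 r == some 71)) &&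
    (bif Nat.beq r 71 then sm E 25 r == some 70
      else !(sm E 25 r == some 70) && !(sm E 25 r == some 71))) = true := by decide +kernel

theorem word_base : (chkWord E baseW 71 topA topA && chkWord E baseW.reverse 56 topA topA) = true := by
  decide +kernel

theorem perm_base : perm E baseW 71 = 56 ∧ perm E baseW.reverse 56 = 71 := by decide +kernel

theorem stab_base : (baseRep.all fun p =>
    chkMove chevE6 E p.1 topA topA && (topA.all fun r => !(sm E p.1 r == some 56)) &&
    sm E p.2.1 p.2.2 == some p.1 && !Nat.beq p.2.2 (ng chevE6 p.2.1) &&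
    (baseRep.any fun q => Nat.beq q.1 p.2.1) && (baseRep.any fun q => Nat.beq q.1 p.2.2)) = true := by
  decide +kernel

end Cfsg.Agent.Lib.E6Deg41
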