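import Cfsg.Agent.Lib.E6Deg41.Moves

/-!
Characters supported on one root and their images under Weyl words.
-/

set_option autoImplicit false

namespace Cfsg.Agent.Lib.E6Deg41

open Cfsg.Lie Cfsg.Agent.Lib.Chev Cfsg.Agent.Lib.ChevOver Module

/-- The word sends the list onto the second list, and `r₀` alone to its image. -/
def chkWord (C : Cert) (L : List ℕ) (r₀ : ℕ) (A A' : List ℕ) : Bool :=
  A'.all fun r' => A.any fun r => Nat.beq (perm C L r) r' && (Nat.beq r' (perm C L r₀) == Nat.beq r r₀)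

variable {D : ChevalleyDatum} {C : Cert} {F : Type*} [Field F] (X : Setup D C F)

/-- The character supported on one root. -/
def dl (r₀ : ℕ) (c : F) (r : ℕ) : F := if r = r₀ then c else 0

theorem dl_self (r₀ : ℕ) (c : F) : dl r₀ c r₀ = c := if_pos rfl

theorem dl_ne {r₀ r : ℕ} (c : F) (h : r ≠ r₀) : dl r₀ c r = 0 := if_neg h

namespace Setup

variable {V : Type*} [AddCommGroup V] [Module ℂ V] (π : ↥(D.group F) →* Module.End ℂ V)

theorem Es_congr {L : List ℕ} {m m' : ℕ → F} (h : ∀ r ∈ L, m r = m' r) : X.Es π L m = X.Es π L m' := by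
  ext v
  simp only [mem_Es]
  exact forall₂_congr fun r hr => by rw [h r hr]

theorem Es_mono {L L' : List ℕ} (h : ∀ r ∈ L', r ∈ L) (m : ℕ → F) : X.Es π L m ≤ X.Es π L' m :=
  fun _ hv r hr => hv r (h r hr)

theorem word_mem {L : List ℕ} (hL : IsWord D L) {r₀ : ℕ} {A A' : List ℕ} (hA : ∀ r ∈ A, r < D.nroots)
    (h : chkWord C L r₀ A A' = true) {c : F} {v : V} (hv : v ∈ X.Es π A (dl r₀ c)) :
    π (X.nW L hL) v ∈ X.Es π A' (dl (perm C L r₀) ((weta C L r₀ : F) * c)) := fun r' hr' => by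
  simp only [chkWord, List.all_eq_true, List.any_eq_true, Bool.and_eq_true, natBeq_eq, decide_eq_true_eq,
    beq_iff_eq] at h
  obtain ⟨r, hr, rfl, hiff⟩ := h r' hr'
  have := X.eig_word π hL (hA r hr) (hv r hr)
  convert this using 1
  by_cases e : r = r₀
  · subst e; rw [dl_self, dl_self]
  · rw [dl_ne _ e, mul_zero, dl_ne]
    intro e'
    exact e (by simpa [natBeq_eq, e'] using hiff)

omit X in
theorem weta_ne (L : List ℕ) (r : ℕ) : (weta C L r : F) ≠ 0 := by
  rcases weta_cases (C := C) L r with w | w <;> simp [w]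

theorem word_finrank [FiniteDimensional ℂ V] {L : List ℕ} (hL : IsWord D L) {r₀ : ℕ} {A A' : List ℕ}
    (hA : ∀ r ∈ A, r < D.nroots) (h : chkWord C L r₀ A A' = true) (c : F) :
    finrank ℂ (X.Es π A (dl r₀ c)) ≤ finrank ℂ (X.Es π A' (dl (perm C L r₀) ((weta C L r₀ : F) * c))) :=
  finrank_le_of_map π (X.nW L hL) fun _ hv => X.word_mem π hL hA h hv

/-- An element of a line stabiliser which is a commutator of two others fixes the line. -/
theorem eig_zero_of_commutator {a b e : ℕ} (ha : a < D.nroots) (hb : b < D.nroots) (h2 : b ≠ ng D a)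
    (hs : sm C a b = some e) {v : V} (hv : v ≠ 0)
    (ca : ∀ t, ∃ c : ℂ, π (X.x a t) v = c • v) (cb : ∀ t, ∃ c : ℂ, π (X.x b t) v = c • v)
    (ce : ∀ t, ∃ c : ℂ, π (X.x e t) v = c • v) : X.Eig π e 0 v := by
  rw [eig_zero_iff]
  intro s
  have hN := (X.Nc_unit ha hb h2 hs).2
  set t : F := -(s / (Nc C a b : F))
  obtain ⟨c₁, h₁⟩ := ca t
  obtain ⟨c₂, h₂⟩ := cb 1
  obtain ⟨c₃, h₃⟩ := ce s
  have key := congrArg (fun g => π g v) (X.swap_some ha hb h2 hs t 1)
  have hst : (Nc C a b : F) * -t * 1 = s := by simp only [t]; field_simp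
  simp only [hst, act_mul, h₁, h₂, h₃, map_smul, smul_smul] at key
  have hne : c₁ * c₂ ≠ 0 := by
    refine mul_ne_zero (fun e0 => hv ?_) (fun e0 => hv ?_)
    · exact act_injective π (X.x a t) (by rw [h₁, e0, zero_smul, map_zero])
    · exact act_injective π (X.x b 1) (by rw [h₂, e0, zero_smul, map_zero])
  have h4 : c₃ = 1 := by
    refine mul_right_cancel₀ hne ?_
    rw [one_mul]
    have := smul_left_injective ℂ hv key
    linear_combination -this
  rw [h₃, h4, one_smul]

end Setup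

end Cfsg.Agent.Lib.E6Deg41
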