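import Cfsg.Agent.Lib.E6Deg41.Strata
import Cfsg.Agent.Lib.E6Deg41.Arith
import Cfsg.Agent.Lib.E6Deg41.Centre
import Cfsg.Agent.Lib.Chars.Integral

/-!
Every nontrivial irreducible representation of `E₆(q)` has degree at least `q (q⁶ + q³ + 1) (q⁴ + 1)`.
-/

set_option autoImplicit false

namespace Cfsg.Agent.Lib.E6Deg41

open Cfsg.Lie Cfsg.Agent.Lib.Chev Module

theorem top_lists : topL = 71 :: topP.map Prod.fst ∨ ((∀ r ∈ topL, r ∈ 71 :: topP.map Prod.fst) ∧
    (∀ r ∈ 71 :: topP.map Prod.fst, r ∈ topL)) := by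
  right
  constructor <;> · intro r hr; revert r; decide +kernel

theorem adj_split : (chkSplit chevE6 E [71] (topP.map Prod.fst) [] &&
    decide ((71 :: topP.map Prod.fst).Nodup)) = true := by decide +kernel

theorem not_div : ¬(961 : ℕ) ∣ 2 ^ 36 * orderPoly 2 ∧ ¬(961 : ℕ) ∣ 4 ^ 36 * orderPoly 4 := by
  decide +kernel

variable {F : Type*} [Field F] (X : Setup chevE6 E F)

namespace Setup

variable [Fintype F] {V : Type*} [AddCommGroup V] [Module ℂ V] [FiniteDimensional ℂ V]
  (π : ↥(chevE6.group F) →* Module.End ℂ V)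

/-- Splitting bounds an eigenspace by those of the longer list. -/
theorem split_le (b : ℕ) : ∀ (P L : List ℕ), chkSplit chevE6 E L P [] = true → (L ++ P).Nodup →
    ∀ m : ℕ → F, (∀ m' : ℕ → F, (∀ r ∈ L, m' r = m r) → finrank ℂ (X.Es π (L ++ P) m') ≤ b) →
      finrank ℂ (X.Es π L m) ≤ Fintype.card F ^ P.length * b
  | [], L, _, _, m, h => by
    have h1 := h m fun _ _ => rfl
    rw [List.append_nil] at h1
    simpa using h1
  | p :: P, L, hc, hnd, m, h => by
    classical
    have hc' := List.all_eq_true.1 hc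
    have hmove : chkMove chevE6 E p L [] = true := by
      have := chkMove_iff.1 (hc' p List.mem_cons_self)
      exact chkMove_iff.2 ⟨this.1, fun r hr => this.2 r (List.mem_append_left _ hr)⟩
    have hpL : p ∉ L := fun hp => by
      rw [List.nodup_append] at hnd
      exact hnd.2.2 p hp p List.mem_cons_self rfl
    let mc : F → ℕ → F := fun c r => if r = p then c else m r
    have hmem : ∀ (v : V), v ∈ X.Es π L m → ∀ c, X.e π p c v ∈ X.Es π (L ++ [p]) (mc c) := fun v hv c r hr => by
      by_cases e : r = p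
      · subst e; simpa [mc] using X.e_eig π r c v
      · simpa [mc, e] using X.e_Es π hmove hv (by simp) c r (by simpa [e] using hr)
    let f : X.Es π L m →ₗ[ℂ] ∀ c : F, X.Es π (L ++ [p]) (mc c) :=
      LinearMap.pi fun c => (X.e π p c).restrict fun v hv => hmem v hv c
    have hf : Function.Injective f := by
      refine (injective_iff_map_eq_zero f).2 fun v hv => Subtype.ext ?_
      rw [ZeroMemClass.coe_zero, ← X.sum_e π p (v : V)]
      exact Finset.sum_eq_zero fun c _ => congrArg Subtype.val (congrFun hv c)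
    refine (LinearMap.finrank_le_finrank_of_injective hf).trans ?_
    rw [Module.finrank_pi_fintype, List.length_cons, pow_succ, mul_comm _ (Fintype.card F), mul_assoc]
    refine (Finset.sum_le_card_nsmul _ _ (Fintype.card F ^ P.length * b) fun c _ => ?_).trans (by simp)
    refine split_le b P (L ++ [p]) ?_ (by simpa using hnd) (mc c) fun m' hm' => ?_
    · simp only [chkSplit, List.all_eq_true]
      intro r hr
      simpa using hc' r (List.mem_cons_of_mem _ hr)
    · refine le_trans (le_of_eq (by rw [List.append_assoc]; rfl)) (h m' fun r hr => ?_)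
      rw [hm' r (List.mem_append_left _ hr)]
      simp [mc, show r ≠ p from fun e => hpL (e ▸ hr)]

variable (hone : ∀ t : F, t ≠ 0 → finrank ℂ (X.Es π topA (dl 71 t)) = 1 ∧
  X.Es π topL (dl 71 t) ≤ X.Es π topA (dl 71 t))
include hone

/-- The eigenspaces of the highest root subgroup. -/
theorem top_eigen {t : F} (ht : t ≠ 0) : finrank ℂ (X.Es π [71] (dl 71 t)) = Fintype.card F ^ 10 := by
  classical
  obtain ⟨hl1, hl2⟩ := top_lists.resolve_left (by decide +kernel)
  have hb := adj_split
  simp only [Bool.and_eq_true, decide_eq_true_eq] at hb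
  have hL0 : finrank ℂ (X.Es π topL (dl 71 t)) ≤ 1 := (Submodule.finrank_mono (hone t ht).2).trans (hone t ht).1.le
  have hL1 : 1 ≤ finrank ℂ (X.Es π topL (dl 71 t)) :=
    (hone t ht).1.ge.trans (Submodule.finrank_mono (X.Es_mono π (fun r hr => mem_topA.2 (by
      have := mem_topL.1 hr; omega)) _))
  refine le_antisymm ?_ ?_
  · have h := X.split_le π 1 (topP.map Prod.fst) [71] hb.1 hb.2 (dl 71 t) fun m' hm' => ?_
    · simpa [topP] using h
    have h71 : m' 71 = t := by rw [hm' 71 (by simp), dl_self]
    obtain ⟨m'', e1, e2, hle⟩ := X.translate_top π tr_topL (m := m') (h71 ▸ ht) (fun _ => 0)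
    have e : X.Es π topL m'' = X.Es π topL (dl 71 t) := X.Es_congr π fun r hr => by
      have hr' := mem_topL.1 hr
      by_cases e : r = 71
      · subst e; rw [dl_self, e1, h71]
      · rw [dl_ne _ e, e2 r hr'.1 (by omega)]
    rw [e] at hle
    exact ((Submodule.finrank_mono (X.Es_mono π hl1 m')).trans hle).trans hL0
  · choose m hm71 hmg hle using fun g : Fin 10 → F =>
      X.translate_top π tr_topL (m := dl 71 t) (by rwa [dl_self]) (adjVal g)
    refine le_trans ?_ (X.sep π topL m (fun g => X.Es π topL (m g)) (X.Es π [71] (dl 71 t)) (fun g => ?_) ?_)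
    · have h := Finset.sum_le_sum (s := (Finset.univ : Finset (Fin 10 → F))) fun g _ =>
        (show 1 ≤ finrank ℂ (X.Es π topL (m g)) from hL1.trans (hle g))
      simpa [Finset.sum_const, Fintype.card_pi] using h
    · refine le_inf le_rfl fun v hv r hr => ?_
      rw [List.mem_singleton] at hr; subst hr
      rw [← hm71 g]
      exact hv 71 (mem_topL.2 (by omega))
    · intro g g' h
      funext i
      have h1 := h (70 - i.val) (mem_topL.2 (by omega))
      rw [hmg g _ (by omega) (by omega), hmg g' _ (by omega) (by omega), adjVal_apply, adjVal_apply] at h1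
      exact h1

/-- The character value at a root element. -/
theorem trace_top : LinearMap.trace ℂ V (π (X.x 71 1)) = (finrank ℂ V : ℂ) - (Fintype.card F : ℂ) ^ 11 := by
  classical
  have hproj : ∀ c, LinearMap.IsProj (X.Es π [71] (dl 71 c)) (X.e π 71 c) := fun c =>
    ⟨fun v r hr => by rw [List.mem_singleton] at hr; subst hr; rw [dl_self]; exact X.e_eig π _ c v,
     fun v hv => by
      rw [X.e_of_eig π (hv 71 (List.mem_singleton.2 rfl)), dl_self, if_pos rfl]⟩
  have hsum : π (X.x 71 1) = ∑ c : F, X.psi c • X.e π 71 c := by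
    refine LinearMap.ext fun v => ?_
    conv_lhs => rw [← X.sum_e π 71 v, map_sum]
    rw [LinearMap.sum_apply]
    refine Finset.sum_congr rfl fun c _ => ?_
    rw [X.e_eig π 71 c v 1, mul_one, LinearMap.smul_apply]
  have hD : ∑ c : F, (finrank ℂ (X.Es π [71] (dl 71 c)) : ℂ) = finrank ℂ V := by
    have h1 : (1 : Module.End ℂ V) = ∑ c : F, X.e π 71 c :=
      LinearMap.ext fun v => by rw [LinearMap.sum_apply, X.sum_e π 71 v]; rfl
    have := congrArg (LinearMap.trace ℂ V) h1
    rw [LinearMap.trace_one, map_sum] at this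
    rw [this]
    exact Finset.sum_congr rfl fun c _ => (hproj c).trace.symm
  rw [hsum, map_sum, Finset.sum_congr rfl fun c _ => by rw [map_smul, (hproj c).trace, smul_eq_mul],
    ← hD, ← Finset.add_sum_erase _ _ (Finset.mem_univ (0 : F)),
    ← Finset.add_sum_erase _ _ (Finset.mem_univ (0 : F))]
  have hq : ∀ c ∈ (Finset.univ : Finset F).erase 0,
      (finrank ℂ (X.Es π [71] (dl 71 c)) : ℂ) = (Fintype.card F : ℂ) ^ 10 := fun c hc => by
    rw [X.top_eigen π hone (Finset.ne_of_mem_erase hc)]; push_cast; ring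
  rw [Finset.sum_congr rfl hq, Finset.sum_congr rfl fun c hc => by rw [hq c hc], AddChar.map_zero_eq_one, one_mul,
    ← Finset.sum_mul]
  have hps : ∑ c ∈ (Finset.univ : Finset F).erase 0, X.psi c = -1 := by
    have h := X.psi_sum 1
    rw [if_neg one_ne_zero, ← Finset.add_sum_erase _ _ (Finset.mem_univ (0 : F))] at h
    simp only [one_mul, mul_zero, AddChar.map_zero_eq_one] at h
    linear_combination h
  rw [hps, Finset.sum_const, Finset.card_erase_of_mem (Finset.mem_univ _), Finset.card_univ, nsmul_eq_mul,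
    Nat.cast_sub Fintype.card_pos]
  push_cast
  ring

omit hone in
/-- The degree bound. -/
theorem degree_bound [Representation.IsIrreducible π] (hcard : Nat.card ↥(chevE6.group F) ∣
      Fintype.card F ^ 36 * orderPoly (Fintype.card F))
    {v₀ : V} (hv₀ : π (X.x 71 1) v₀ ≠ v₀) : target (Fintype.card F) ≤ finrank ℂ V := by
  rcases X.top_dichotomy π Fintype.one_lt_card hv₀ with h | hone
  · exact h
  by_contra hlt
  have hS := X.strata_bound π fun t ht => (hone t ht).1
  have hE := strataSum_eq (q := Fintype.card F) Fintype.one_lt_card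
  haveI : Finite ↥(chevE6.group F) := Subgroup.instFiniteSubtypeMem _
  have hint := Lib.Chars.isIntegral_central_value π (X.x 71 1)
  rw [show Representation.character π (X.x 71 1) = _ from X.trace_top π hone] at hint
  set I := (Subgroup.centralizer ({X.x 71 1} : Set ↥(chevE6.group F))).index with hI
  have hC := X.dvd_card_centralizer
  have hCI : Nat.card (Subgroup.centralizer ({X.x 71 1} : Set ↥(chevE6.group F))) * I =
      Nat.card ↥(chevE6.group F) := Subgroup.card_mul_index _
  have hp31 : Nat.Prime 31 := by norm_num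
  have key : ∀ d r : ℕ, finrank ℂ V = d → d = Fintype.card F ^ 11 + r → 31 ∣ d → ¬(31 ∣ r) →
      31 ∣ Fintype.card F ^ 5 - 1 → ¬(961 ∣ Fintype.card F ^ 36 * orderPoly (Fintype.card F)) → False := by
    intro d r hd hdr h31 hr h5 hno
    refine hno (dvd_trans ?_ hcard)
    rw [show (961 : ℕ) = 31 * 31 by norm_num, ← hCI]
    refine Nat.mul_dvd_mul (h5.trans hC) ?_
    have h : IsIntegral ℤ (((I * r : ℕ) : ℂ) / (d : ℕ)) := by
      convert hint using 2
      · rw [hd, hdr]; push_cast; ring
      · rw [hd]
    have hdvd := Lib.Chars.dvd_of_isIntegral_div (by rw [← hd]; exact (Lib.Chars.finrank_pos_of_isIrreducible π).ne') h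
    exact (hp31.dvd_mul.1 (h31.trans hdvd)).resolve_right hr
  rcases exceptions (FiniteField.isPrimePow_card F) hcard (Lib.Chars.finrank_dvd_card π) (by omega) (by omega) with
    ⟨hq, hd⟩ | ⟨hq, hd⟩
  · exact key 2480 432 hd (by rw [hq]; norm_num) (by norm_num) (by norm_num) (by rw [hq]; norm_num)
      (by rw [hq]; exact not_div.1)
  · exact key 4277504 83200 hd (by rw [hq]; norm_num) (by norm_num) (by norm_num) (by rw [hq]; norm_num)
      (by rw [hq]; exact not_div.2)

end Setup

end Cfsg.Agent.Lib.E6Deg41
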