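import Cfsg.Agent.Lib.E6Deg41.Basic

/-!
Splitting, translating and separating simultaneous eigenspaces of root subgroups.
-/

set_option autoImplicit false

namespace Cfsg.Agent.Lib.E6Deg41

open Cfsg.Lie Cfsg.Agent.Lib.Chev Cfsg.Agent.Lib.ChevOver

/-- `sm` is absent or in the list. -/
def into (C : Cert) (η r : ℕ) (L : List ℕ) : Bool :=
  match sm C η r with
  | none => true
  | some a => L.contains a

/-- `x_η` maps eigenvectors of the list to eigenvectors. -/
def chkMove (D : ChevalleyDatum) (C : Cert) (η : ℕ) (L Z : List ℕ) : Bool :=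
  Nat.blt η D.nroots && L.all fun r => Nat.blt r D.nroots && !Nat.beq r (ng D η) && into C η r Z

/-- The roots of `P` can be split over eigenvectors of `L`, fixed by `Z`. -/
def chkSplit (D : ChevalleyDatum) (C : Cert) (L P Z : List ℕ) : Bool :=
  P.all fun r => chkMove D C r (L ++ P) Z

/-- The triangular translations: pairs `(γ, η)` with `η + γ = top`. -/
def chkTr (D : ChevalleyDatum) (C : Cert) (L Z : List ℕ) (top : ℕ) : List ℕ → List (ℕ × ℕ) → Bool
  | _, [] => true
  | done, (γ, η) :: P =>
    chkMove D C η L L && L.contains γ && decide (sm C η γ = some top) &&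
      ((top :: (Z ++ done)).all fun r => !Nat.beq r γ && into C η r Z) && chkTr D C L Z top (γ :: done) P

variable {D : ChevalleyDatum} {C : Cert} {F : Type*} [Field F] (X : Setup D C F)

namespace Setup

variable {V : Type*} [AddCommGroup V] [Module ℂ V] (π : ↥(D.group F) →* Module.End ℂ V)

omit X in
theorem into_iff {η r : ℕ} {L : List ℕ} : into C η r L = true ↔ ∀ a, sm C η r = some a → a ∈ L := by
  unfold into
  rcases sm C η r with _ | a <;> simp

omit X in
theorem chkMove_iff {η : ℕ} {L Z : List ℕ} : chkMove D C η L Z = true ↔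
    η < D.nroots ∧ ∀ r ∈ L, r < D.nroots ∧ r ≠ ng D η ∧ ∀ a, sm C η r = some a → a ∈ Z := by
  simp only [chkMove, Bool.and_eq_true, List.all_eq_true, Nat.blt_eq, Bool.not_eq_true', into_iff, and_assoc]
  refine and_congr_right fun _ => forall_congr' fun r => imp_congr_right fun _ => and_congr_right fun _ => ?_
  rw [← Bool.not_eq_true, natBeq_eq, decide_eq_true_eq]

/-- The effect of `x_η(t)` on the character. -/
def shM (C : Cert) (η : ℕ) (t : F) (m : ℕ → F) (r : ℕ) : F :=
  match sm C η r with
  | none => m r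
  | some a => m r - (Nc C η r : F) * t * m a

omit X in
theorem shM_some {η r a : ℕ} (h : sm C η r = some a) (t : F) (m : ℕ → F) :
    shM C η t m r = m r - (Nc C η r : F) * t * m a := by simp [shM, h]

omit X in
theorem shM_keep {η r : ℕ} {m : ℕ → F} (h : ∀ a, sm C η r = some a → m a = 0) (t : F) :
    shM C η t m r = m r := by
  unfold shM
  rcases hs : sm C η r with _ | a
  · rfl
  · simp [h a hs]

theorem move_mem {η : ℕ} {L : List ℕ} (h : chkMove D C η L L = true) (t : F) {m : ℕ → F} {v : V}
    (hv : v ∈ X.Es π L m) : π (X.x η t) v ∈ X.Es π L (shM C η t m) := fun r hr => by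
  obtain ⟨hη, hL⟩ := chkMove_iff.1 h
  obtain ⟨hrn, h2, hin⟩ := hL r hr
  rcases hs : sm C η r with _ | a
  · have := X.eig_keep π hη hrn h2 (hv r hr) (fun a e => by rw [hs] at e; cases e) t
    simpa [shM, hs] using this
  · rw [shM_some hs]
    exact X.eig_shift π hη hrn h2 hs (hv r hr) (hv a (hin a hs)) t

variable [Fintype F]

/-- One root may be split off. -/
theorem e_Es {η : ℕ} {L Z : List ℕ} (h : chkMove D C η L Z = true) {m : ℕ → F} {v : V}
    (hv : v ∈ X.Es π L m) (hZ : ∀ a ∈ Z, X.Eig π a 0 v) (c : F) : X.e π η c v ∈ X.Es π L m := fun r hr => by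
  obtain ⟨hη, hL⟩ := chkMove_iff.1 h
  obtain ⟨hrn, h2, hin⟩ := hL r hr
  exact X.e_keep π hη hrn h2 (hv r hr) (fun a ha => hZ a (hin a ha)) c

/-- A nonzero vector has a component which is an eigenvector of all of `P`. -/
theorem split {Z : List ℕ} : ∀ (P L : List ℕ), chkSplit D C L P Z = true → (∀ a ∈ Z, a ∈ L) →
    ∀ (m : ℕ → F) {v : V}, v ∈ X.Es π L m → (∀ a ∈ Z, m a = 0) → v ≠ 0 →
      ∃ (m' : ℕ → F) (w : V), w ≠ 0 ∧ (∀ r ∈ L, m' r = m r) ∧ w ∈ X.Es π (L ++ P) m'
  | [], L, _, _, m, v, hv, _, hne => ⟨m, v, hne, fun _ _ => rfl, by simpa using hv⟩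
  | p :: P, L, h, hZL, m, v, hv, hm, hne => by
    simp only [chkSplit, List.all_eq_true] at h
    obtain ⟨c, hc⟩ := X.exists_component π (r := p) hne
    have hmove : chkMove D C p L Z = true := by
      have := (chkMove_iff.1 (h p List.mem_cons_self))
      exact chkMove_iff.2 ⟨this.1, fun r hr => this.2 r (List.mem_append_left _ hr)⟩
    have hw := X.e_Es π hmove hv (fun a ha => hm a ha ▸ hv a (hZL a ha)) c
    by_cases hp : p ∈ L
    · obtain ⟨m', w, hw0, he, hwE⟩ := split P L (by
        simp only [chkSplit, List.all_eq_true]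
        intro r hr
        have := chkMove_iff.1 (h r (List.mem_cons_of_mem _ hr))
        exact chkMove_iff.2 ⟨this.1, fun s hs => this.2 s (by
          rcases List.mem_append.1 hs with e | e
          · exact List.mem_append_left _ e
          · exact List.mem_append_right _ (List.mem_cons_of_mem _ e))⟩) hZL m hw hm hc
      refine ⟨m', w, hw0, he, fun r hr => hwE r ?_⟩
      simp only [List.mem_append, List.mem_cons] at hr ⊢
      rcases hr with e | rfl | e <;> tauto
    · classical
      let m1 : ℕ → F := fun r => if r = p then c else m r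
      have hw1 : X.e π p c v ∈ X.Es π (L ++ [p]) m1 := fun r hr => by
        by_cases e : r = p
        · subst e; simpa [m1] using X.e_eig π r c v
        · have hrL : r ∈ L := by simpa [e] using hr
          simpa [m1, e] using hw r hrL
      obtain ⟨m', w, hw0, he, hwE⟩ := split P (L ++ [p]) (by
        simp only [chkSplit, List.all_eq_true]
        intro r hr
        simpa using h r (List.mem_cons_of_mem _ hr)) (fun a ha => List.mem_append_left _ (hZL a ha)) m1 hw1
        (fun a ha => by simp [m1, show a ≠ p from fun e => hp (e ▸ hZL a ha), hm a ha]) hc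
      refine ⟨m', w, hw0, fun r hr => ?_, by simpa using hwE⟩
      rw [he r (List.mem_append_left _ hr)]
      simp [m1, show r ≠ p from fun e => hp (e ▸ hr)]

omit [Fintype F] in
/-- Translations move the coordinates of `P` to given values. -/
theorem translate [FiniteDimensional ℂ V] {L Z : List ℕ} {top : ℕ} (hZ : ∀ a ∈ Z, a ∈ L) :
    ∀ (P : List (ℕ × ℕ)) (done : List ℕ), chkTr D C L Z top done P = true →
    ∀ (m : ℕ → F), (∀ a ∈ Z, m a = 0) → m top ≠ 0 → ∀ g : ℕ → F,
      ∃ m' : ℕ → F, (∀ r ∈ top :: (Z ++ done), m' r = m r) ∧ (∀ p ∈ P, m' p.1 = g p.1) ∧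
        Module.finrank ℂ (X.Es π L m) ≤ Module.finrank ℂ (X.Es π L m')
  | [], _, _, m, _, _, _ => ⟨m, fun _ _ => rfl, by simp, le_rfl⟩
  | (γ, η) :: P, done, h, m, hm, htop, g => by
    simp only [chkTr, Bool.and_eq_true, decide_eq_true_eq, List.all_eq_true, List.contains_iff_mem,
      Bool.not_eq_true', into_iff] at h
    obtain ⟨⟨⟨⟨h1, hγ⟩, hs⟩, hkeep⟩, hrest⟩ := h
    obtain ⟨hη, hL⟩ := chkMove_iff.1 h1
    have hN := (X.Nc_unit hη (hL γ hγ).1 (hL γ hγ).2.1 hs).2
    set t : F := (m γ - g γ) / ((Nc C η γ : F) * m top)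
    set m1 := shM C η t m
    have hfix : ∀ r ∈ top :: (Z ++ done), m1 r = m r := fun r hr =>
      shM_keep (fun a ha => hm a ((hkeep r hr).2 a ha)) t
    have hγ1 : m1 γ = g γ := by
      show shM C η t m γ = _
      rw [shM_some hs]
      simp only [t]
      field_simp
      ring
    have hle : Module.finrank ℂ (X.Es π L m) ≤ Module.finrank ℂ (X.Es π L m1) :=
      finrank_le_of_map π (X.x η t) fun v hv => X.move_mem π h1 t hv
    have hm1top : m1 top = m top := hfix top List.mem_cons_self
    obtain ⟨m', h2, h3, h4⟩ := translate hZ P (γ :: done) hrest m1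
      (fun a ha => by rw [hfix a (List.mem_cons_of_mem _ (List.mem_append_left _ ha))]; exact hm a ha)
      (by rwa [hm1top]) g
    refine ⟨m', fun r hr => ?_, fun p hp => ?_, hle.trans h4⟩
    · rw [h2 r ?_, hfix r hr]
      simp only [List.mem_cons, List.mem_append] at hr ⊢
      tauto
    · rcases List.mem_cons.1 hp with rfl | hp
      · rw [← hγ1]; exact h2 γ (by simp)
      · exact h3 p hp

/-! ### Separation -/

/-- The projection to the eigenvectors of a list. -/
noncomputable def eList (L : List ℕ) (m : ℕ → F) : Module.End ℂ V := (L.map fun r => X.e π r (m r)).prod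

theorem eList_of_mem [DecidableEq F] {m' : ℕ → F} {v : V} : ∀ {L : List ℕ} (m : ℕ → F),
    v ∈ X.Es π L m' → X.eList π L m v = if ∀ r ∈ L, m r = m' r then v else 0
  | [], m, _ => by simp [eList]
  | r :: L, m, hv => by
    have hL : v ∈ X.Es π L m' := fun s hs => hv s (List.mem_cons_of_mem _ hs)
    have e : X.eList π (r :: L) m v = X.e π r (m r) (X.eList π L m v) := rfl
    rw [e, eList_of_mem m hL]
    by_cases h : ∀ s ∈ L, m s = m' s
    · rw [if_pos h, X.e_of_eig π (hv r List.mem_cons_self)]
      by_cases h' : m r = m' r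
      · rw [if_pos h', if_pos fun s hs => (List.mem_cons.1 hs).elim (fun e => e ▸ h') (h s)]
      · rw [if_neg h', if_neg fun hh => h' (hh r List.mem_cons_self)]
    · rw [if_neg h, map_zero, if_neg fun hh => h fun s hs => hh s (List.mem_cons_of_mem _ hs)]

/-- Subspaces with different characters are independent. -/
theorem sep [FiniteDimensional ℂ V] {ι : Type*} [Fintype ι] (L : List ℕ) (m : ι → ℕ → F)
    (W : ι → Submodule ℂ V) (Y : Submodule ℂ V) (hW : ∀ i, W i ≤ X.Es π L (m i) ⊓ Y)
    (hm : ∀ i j, (∀ r ∈ L, m i r = m j r) → i = j) :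
    ∑ i, Module.finrank ℂ (W i) ≤ Module.finrank ℂ Y := by
  classical
  let f : (∀ i, W i) →ₗ[ℂ] Y := LinearMap.codRestrict Y
    (∑ i, (W i).subtype ∘ₗ LinearMap.proj i) (fun v => by
      simp only [LinearMap.sum_apply]
      exact Y.sum_mem fun i _ => (hW i (v i).2).2)
  have hf : Function.Injective f := by
    refine (injective_iff_map_eq_zero f).2 fun v hv => funext fun i => Subtype.ext ?_
    have h : (f v : V) = 0 := by rw [hv]; rfl
    simp only [f, LinearMap.codRestrict_apply, LinearMap.sum_apply, LinearMap.comp_apply, LinearMap.proj_apply,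
      Submodule.subtype_apply] at h
    have h2 := congrArg (X.eList π L (m i)) h
    rw [map_sum, map_zero, Finset.sum_eq_single i, X.eList_of_mem π _ (hW i (v i).2).1, if_pos fun _ _ => rfl] at h2
    · exact h2
    · intro j _ hj
      rw [X.eList_of_mem π _ (hW j (v j).2).1, if_neg fun e => hj (hm i j e).symm]
    · exact fun h => absurd (Finset.mem_univ i) h
  have := LinearMap.finrank_le_finrank_of_injective hf
  rwa [Module.finrank_pi_fintype] at this

/-! ### Weyl words -/

/-- A word in the fundamental elements as an element of the group. -/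
noncomputable def nW (L : List ℕ) (hL : IsWord D L) : ↥(D.group F) :=
  ⟨nProd X.hh.toChecked F L, X.hh.monomial_le_group (X.hh.nProd_mem_monomial hL)⟩

omit [Fintype F] in
theorem eig_word {L : List ℕ} (hL : IsWord D L) {r : ℕ} (hr : r < D.nroots) {c : F} {v : V}
    (hv : X.Eig π r c v) : X.Eig π (perm C L r) ((weta C L r : F) * c) (π (X.nW L hL) v) := fun t => by
  have e : X.x (perm C L r) t * X.nW L hL = X.nW L hL * X.x r ((weta C L r : F) * t) := by
    refine Subtype.ext (Units.ext ?_)
    simp only [nW, x, Subgroup.coe_mul, Units.val_mul, coe_xg]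
    rw [X.hh.toChecked.nProd_mul_x hL hr]
    rcases weta_cases (C := C) L r with w | w <;> simp [w]
  rw [← act_mul, e, act_mul, hv, map_smul]
  congr 2
  ring

end Setup

end Cfsg.Agent.Lib.E6Deg41
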