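import Cfsg.Agent.Lib.E6Deg41.Delta

/-!
Passing from one fundamental root to a neighbour.
-/

set_option autoImplicit false

namespace Cfsg.Agent.Lib.E6Deg41

open Cfsg.Lie Cfsg.Agent.Lib.Chev Module

/-- The positive roots. -/
def posL (D : ChevalleyDatum) : List ℕ := List.range' (D.nroots / 2) (D.nroots / 2)

/-- The data passing from `k` to `l`, with `a = k + l` and fundamental indices `il`, `ik`. -/
structure Link where
  k : ℕ
  l : ℕ
  a : ℕ
  il : ℕ
  ik : ℕ

/-- The fixed roots at `k` other than `a`. -/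
def Link.rest (p : Link) (Sk : List ℕ) : List ℕ := Sk.filter fun r => decide (r ≠ p.a)

/-- The positive roots away from `k`, `l` and `a`. -/
def Link.others (D : ChevalleyDatum) (p : Link) : List ℕ :=
  (posL D).filter fun r => decide (r ≠ p.k ∧ r ≠ p.l ∧ r ≠ p.a)

/-- The roots whose elements fix the translates. -/
def chkGood (D : ChevalleyDatum) (C : Cert) (p : Link) (Fk : List ℕ) (r : ℕ) : Bool :=
  Fk.contains r && Nat.blt r D.nroots && !Nat.beq r (ng D (ng D p.l)) && into C (ng D p.l) r Fk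

/-- The checks of the step from `k` to `l`. -/
def chkProp (D : ChevalleyDatum) (C : Cert) (p : Link) (Sk Fk Sl Fl : List ℕ) : Bool :=
  let U := ng D p.l :: p.rest Sk
  Nat.blt p.il D.rank && Nat.blt p.ik D.rank && Nat.blt p.k D.nroots && Nat.blt p.l D.nroots &&
  !Nat.beq p.k p.l && Fk.contains p.l && !Sk.contains p.k && !Fl.contains p.l && !Sl.contains p.l &&
  Sk.all (fun r => Sl.contains r && Nat.blt r D.nroots) && Sl.all (fun r => Nat.blt r D.nroots) &&
  !Sl.contains p.k && chkMove D C p.k (p.l :: Sl) Sl &&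
  Nat.beq (perm C [p.il, p.ik] p.l) p.k && chkWord C [p.il, p.ik] p.l (p.l :: p.k :: Sl) (p.k :: U) &&
  U.all (fun r => !Nat.beq r p.k) && Sk.contains p.a && !Nat.beq p.a p.k &&
  chkMove D C p.a (p.k :: p.rest Sk) U &&
  decide (sm C (ng D p.l) p.a = some p.k) && Nat.blt p.a D.nroots && !Nat.beq p.a (ng D (ng D p.l)) &&
  !Fk.contains p.k &&
  Fl.all fun r => (p.k :: Sl).contains r || (Nat.blt r D.nroots && chkGood D C p Fk (perm C [p.il, p.ik] r))

/-- The checks of the existence of vectors at `l`. -/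
def chkEx (D : ChevalleyDatum) (C : Cert) (p : Link) (Sl Fl : List ℕ) : Bool :=
  let R := p.others D
  Nat.blt p.il D.rank && Nat.blt p.ik D.rank && !Nat.beq p.l p.a && !Nat.beq p.k p.l && !Nat.beq p.k p.a &&
  (posL D).all (fun r => Nat.blt r D.nroots) && Nat.blt p.l D.nroots && Nat.blt p.a D.nroots &&
  Nat.beq (perm C [p.il] p.k) p.a && chkWord C [p.il] p.k (posL D) (p.a :: p.k :: R) &&
  chkMove D C p.l (p.a :: R) R &&
  chkMove D C p.k (p.l :: p.a :: R) (p.l :: p.a :: R) && decide (sm C p.k p.l = some p.a) &&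
  (p.a :: R).all (fun r => into C p.k r R) &&
  Nat.beq (perm C [p.ik] p.a) p.l && chkWord C [p.ik] p.a (p.a :: p.l :: R) (p.l :: p.a :: R) &&
  Sl.all (fun r => (p.a :: R).contains r) && (posL D).all fun r => (p.l :: Fl).contains r

variable {D : ChevalleyDatum} {C : Cert} {F : Type*} [Field F] (X : Setup D C F)

namespace Setup

variable {V : Type*} [AddCommGroup V] [Module ℂ V] (π : ↥(D.group F) →* Module.End ℂ V)

/-- Eigenvectors at `k` fixed by `S` are fixed by `Fl`. -/
def FixP (k : ℕ) (S Fl : List ℕ) : Prop :=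
  ∀ t : F, t ≠ 0 → ∀ v : V, v ∈ X.Es π (k :: S) (dl k t) → v ∈ X.Es π (k :: Fl) (dl k t)

/-- There are eigenvectors at `k` fixed by the other positive roots. -/
def ExP (k : ℕ) : Prop :=
  ∀ t : F, t ≠ 0 → ∃ v : V, v ≠ 0 ∧ v ∈ X.Es π (k :: posL D) (dl k t)

theorem eig_unique {r : ℕ} {c d : F} {v : V} (hv : v ≠ 0) (h : X.Eig π r c v) (h' : X.Eig π r d v) : c = d := by
  by_contra hcd
  refine X.psi_ne ?_
  have : ∀ t, X.psi ((c - d) * t) = 1 := fun t => by
    have e := smul_left_injective ℂ hv ((h t).symm.trans (h' t))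
    rw [sub_mul, AddChar.map_sub_eq_div, e, div_self]
    exact (AddChar.val_isUnit X.psi (d * t)).ne_zero
  simpa [mul_inv_cancel₀ (sub_ne_zero.2 hcd)] using this (c - d)⁻¹

theorem eig_of_word {L : List ℕ} (hL : IsWord D L) {r : ℕ} (hr : r < D.nroots) {v : V}
    (h : X.Eig π (perm C L r) 0 (π (X.nW L hL) v)) : X.Eig π r 0 v := by
  rw [eig_zero_iff] at h ⊢
  intro t
  refine act_injective π (X.nW L hL) ?_
  have e : X.nW L hL * X.x r t = X.x (perm C L r) ((weta C L r : F) * t) * X.nW L hL := by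
    refine Subtype.ext (Units.ext ?_)
    simp only [nW, x, Subgroup.coe_mul, Units.val_mul, ChevOver.coe_xg]
    exact X.hh.toChecked.nProd_mul_x hL hr t
  rw [← act_mul, e, act_mul, h]

variable [Fintype F]

theorem shift_proj {η a k : ℕ} {t : F} {u : V} (hη : η < D.nroots) (ha : a < D.nroots) (h2 : a ≠ ng D η)
    (h : sm C η a = some k) (hk : X.Eig π k t u) (hu : X.Eig π η 0 u) (s : F) :
    π (X.x η s) (X.e π a 0 u) = X.e π a (-((Nc C η a : F) * s * t)) u := by
  simp only [e_apply, map_smul, map_sum]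
  congr 1
  refine Finset.sum_congr rfl fun τ _ => ?_
  have key := congrArg (fun g => π g u) (X.swap_some hη ha h2 h s τ)
  simp only [act_mul, (X.eig_zero_iff π).1 hu s, hk _, map_smul] at key
  simp only [zero_mul, neg_zero, AddChar.map_zero_eq_one, one_smul]
  conv_rhs => rw [key]
  rw [smul_smul, ← AddChar.map_add_eq_mul]
  rw [show -(-((Nc C η a : F) * s * t) * τ) + t * ((Nc C η a : F) * -s * τ) = 0 by ring,
    AddChar.map_zero_eq_one, one_smul]

/-- Propagation of the fixed roots. -/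
theorem fix_prop {p : Link} {Sk Fk Sl Fl : List ℕ} (h : chkProp D C p Sk Fk Sl Fl = true)
    (hk : X.FixP π p.k Sk Fk) : X.FixP π p.l Sl Fl := by
  simp only [chkProp, Bool.and_eq_true, decide_eq_true_eq, Nat.blt_eq, natBeq_eq, List.all_eq_true,
    Bool.not_eq_true', Bool.or_eq_true, List.contains_iff_mem, decide_eq_false_iff_not] at h
  obtain ⟨⟨⟨⟨⟨⟨⟨⟨⟨⟨⟨⟨⟨⟨⟨⟨⟨⟨⟨⟨⟨⟨⟨hil, hik⟩, hkn⟩, hln⟩, hkl⟩, hlF⟩, hkS⟩, hlFl⟩, hlSl⟩, hSk⟩, hSln⟩, hkSl⟩, hm1⟩,
    hperm⟩, hw⟩, hUk⟩, haS⟩, hak⟩, hm2⟩, hsm⟩, han⟩, hane⟩, hkF⟩, hFl⟩ := h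
  intro t ht v hv
  simp only [Bool.eq_false_iff, ne_eq, List.contains_iff_mem] at hkS hlFl hlSl hkSl hkF
  -- `v` is fixed by `k`
  have hkv : X.Eig π p.k 0 v := by
    by_contra hcon
    obtain ⟨c, hc, hne⟩ := X.exists_component_ne π hcon
    have hw1 := X.e_Es π hm1 hv (fun a ha => by
      have := hv a (List.mem_cons_of_mem _ ha)
      rwa [dl_ne _ (fun e : a = p.l => hlSl (e ▸ ha))] at this) c
    have hwk : X.e π p.k c v ∈ X.Es π (p.k :: Sk) (dl p.k c) := fun r hr => by
      rcases List.mem_cons.1 hr with rfl | hr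
      · rw [dl_self]; exact X.e_eig π _ c v
      · have := hw1 r (List.mem_cons_of_mem _ (hSk r hr).1)
        rwa [dl_ne _ (fun e : r = p.k => hkS (e ▸ hr)), ← dl_ne t (fun e : r = p.l => hlSl (e ▸ (hSk r hr).1))]
    have h0 := hk c hc _ hwk p.l (List.mem_cons_of_mem _ hlF)
    rw [dl_ne _ (Ne.symm hkl)] at h0
    have h1 := hw1 p.l List.mem_cons_self
    rw [dl_self] at h1
    exact ht (X.eig_unique π hne h1 h0)
  have hv' : v ∈ X.Es π (p.l :: p.k :: Sl) (dl p.l t) := fun r hr => by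
    rcases List.mem_cons.1 hr with rfl | hr
    · exact hv _ List.mem_cons_self
    rcases List.mem_cons.1 hr with rfl | hr
    · rw [dl_ne _ hkl]; exact hkv
    · exact hv r (List.mem_cons_of_mem _ hr)
  have hL : IsWord D [p.il, p.ik] := fun i hi => by
    simp only [List.mem_cons, List.not_mem_nil, or_false] at hi; rcases hi with rfl | rfl <;> assumption
  set t' : F := (weta C [p.il, p.ik] p.l : F) * t
  have ht' : t' ≠ 0 := mul_ne_zero (weta_ne _ _) ht
  set u := π (X.nW [p.il, p.ik] hL) v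
  have hu : u ∈ X.Es π (p.k :: ng D p.l :: p.rest Sk) (dl p.k t') := by
    have := X.word_mem π hL (fun r hr => by
      rcases List.mem_cons.1 hr with rfl | hr
      · exact hln
      rcases List.mem_cons.1 hr with rfl | hr
      · exact hkn
      · exact hSln r hr) hw hv'
    rwa [hperm] at this
  have huU : ∀ r ∈ ng D p.l :: p.rest Sk, X.Eig π r 0 u := fun r hr => by
    have := hu r (List.mem_cons_of_mem _ hr)
    rwa [dl_ne] at this
    exact hUk r hr
  set z := X.e π p.a 0 u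
  have hz : z ∈ X.Es π (p.k :: Sk) (dl p.k t') := fun r hr => by
    by_cases e : r = p.a
    · subst e; rw [dl_ne _ hak]; exact X.e_eig π _ 0 u
    · refine X.e_Es π hm2 (m := dl p.k t') (fun s hs => ?_) huU 0 r ?_
      · rcases List.mem_cons.1 hs with rfl | hs
        · exact hu _ List.mem_cons_self
        · exact hu s (List.mem_cons_of_mem _ (List.mem_cons_of_mem _ hs))
      · rcases List.mem_cons.1 hr with rfl | hr
        · exact List.mem_cons_self
        · exact List.mem_cons_of_mem _ (List.mem_filter.2 ⟨hr, by simp [e]⟩)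
  have hzF := hk t' ht' z hz
  have hN := (X.Nc_unit (Checked.ng_lt hln) han hane hsm).2
  intro r hr
  rcases List.mem_cons.1 hr with rfl | hr
  · exact hv _ List.mem_cons_self
  rw [dl_ne _ (fun e : r = p.l => hlFl (e ▸ hr))]
  rcases hFl r hr with e | ⟨hrn, hgood⟩
  · rcases List.mem_cons.1 e with rfl | e
    · exact hkv
    · have := hv r (List.mem_cons_of_mem _ e)
      rwa [dl_ne _ (fun e' : r = p.l => hlSl (e' ▸ e))] at this
  simp only [chkGood, Bool.and_eq_true, List.contains_iff_mem, Nat.blt_eq, Bool.not_eq_true', into_iff,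
    natBeq_eq, decide_eq_false_iff_not] at hgood
  obtain ⟨⟨⟨hg1, hg2⟩, hg3⟩, hg4⟩ := hgood
  refine X.eig_of_word π hL hrn ((X.eig_zero_iff π).2 fun τ => ?_)
  show π (X.x (perm C [p.il, p.ik] r) τ) u = u
  conv_lhs => rw [← X.sum_e π p.a u, map_sum]
  conv_rhs => rw [← X.sum_e π p.a u]
  refine Finset.sum_congr rfl fun c _ => ?_
  have hc : X.e π p.a c u = π (X.x (ng D p.l) (-(c / ((Nc C (ng D p.l) p.a : F) * t')))) z := by
    rw [X.shift_proj π (Checked.ng_lt hln) han hane hsm (by simpa [dl_self] using hu _ List.mem_cons_self)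
      (huU _ List.mem_cons_self)]
    congr 1
    field_simp
  rw [hc]
  have hF0 : ∀ s ∈ Fk, X.Eig π s 0 z := fun s hs => by
    have := hzF s (List.mem_cons_of_mem _ hs)
    rwa [dl_ne _ (fun e : s = p.k => hkF (e ▸ hs))] at this
  exact (X.eig_zero_iff π).1 (X.eig_keep π (Checked.ng_lt hln) hg2 hg3 (hF0 _ hg1)
    (fun s hs => hF0 s (hg4 s hs)) _) τ

/-- Propagation of the existence of vectors. -/
theorem ex_prop {p : Link} {Sl Fl : List ℕ} (h : chkEx D C p Sl Fl = true)
    (hk : X.ExP π p.k) (hl : X.FixP π p.l Sl Fl) : X.ExP π p.l := by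
  simp only [chkEx, Bool.and_eq_true, decide_eq_true_eq, Nat.blt_eq, natBeq_eq, List.all_eq_true,
    Bool.not_eq_true', List.contains_iff_mem, decide_eq_false_iff_not] at h
  set R := p.others D
  obtain ⟨⟨⟨⟨⟨⟨⟨⟨⟨⟨⟨⟨⟨⟨⟨⟨⟨hil, hik⟩, hla⟩, hkl⟩, hka⟩, hpn⟩, hln⟩, han⟩, hp1⟩, hw1⟩, hm1⟩, hm2⟩, hsm⟩, hkeep⟩, hp2⟩,
    hw2⟩, hSl⟩, hcov⟩ := h
  intro t ht
  have hRne : ∀ r ∈ R, r ≠ p.k ∧ r ≠ p.l ∧ r ≠ p.a := fun r hr => by
    exact of_decide_eq_true (List.mem_filter.1 hr).2
  have hL1 : IsWord D [p.il] := fun i hi => by rw [List.mem_singleton] at hi; subst hi; exact hil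
  have hL2 : IsWord D [p.ik] := fun i hi => by rw [List.mem_singleton] at hi; subst hi; exact hik
  set c0 : F := (weta C [p.il] p.k : F) * ((weta C [p.ik] p.a : F) * t)
  obtain ⟨v, hv0, hv⟩ := hk c0 (mul_ne_zero (weta_ne _ _) (mul_ne_zero (weta_ne _ _) ht))
  set c1 : F := (weta C [p.ik] p.a : F) * t
  have hc1 : (weta C [p.il] p.k : F) * c0 = c1 := by
    rcases weta_cases (C := C) [p.il] p.k with w | w <;> simp [c0, c1, w]
  have hu1 : π (X.nW [p.il] hL1) v ∈ X.Es π (p.a :: p.k :: R) (dl p.a c1) := by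
    have := X.word_mem π hL1 hpn hw1 (X.Es_mono π (fun r hr => List.mem_cons_of_mem _ hr) _ hv)
    rwa [hp1, hc1] at this
  set u := π (X.nW [p.il] hL1) v
  have hu0 : u ≠ 0 := fun e => hv0 (act_injective π (X.nW [p.il] hL1) (by rw [map_zero]; exact e))
  obtain ⟨c, hc⟩ := X.exists_component π (r := p.l) hu0
  have hR0 : ∀ r ∈ R, X.Eig π r 0 u := fun r hr => by
    have := hu1 r (List.mem_cons_of_mem _ (List.mem_cons_of_mem _ hr))
    rwa [dl_ne _ (hRne r hr).2.2] at this
  have hw' := X.e_Es π hm1 (m := dl p.a c1) (v := u) (fun r hr => by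
    rcases List.mem_cons.1 hr with rfl | hr
    · exact hu1 _ List.mem_cons_self
    · exact hu1 r (List.mem_cons_of_mem _ (List.mem_cons_of_mem _ hr))) hR0 c
  classical
  let m : ℕ → F := fun r => if r = p.l then c else dl p.a c1 r
  have hwm : X.e π p.l c u ∈ X.Es π (p.l :: p.a :: R) m := fun r hr => by
    by_cases e : r = p.l
    · subst e; simpa [m] using X.e_eig π _ c u
    · simpa [m, e] using hw' r (by simpa [e] using hr)
  have hkn : p.k < D.nroots := (chkMove_iff.1 hm2).1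
  have hN := (X.Nc_unit (a := p.a) hkn hln ((chkMove_iff.1 hm2).2 p.l List.mem_cons_self).2.1 hsm).2
  have hc1ne : c1 ≠ 0 := mul_ne_zero (weta_ne _ _) ht
  set s : F := c / ((Nc C p.k p.l : F) * c1)
  have hu2 : π (X.x p.k s) (X.e π p.l c u) ∈ X.Es π (p.a :: p.l :: R) (dl p.a c1) := by
    intro r hr
    have := X.move_mem π hm2 s hwm r (by
      simp only [List.mem_cons] at hr ⊢; tauto)
    convert this using 1
    by_cases e : r = p.l
    · subst e
      rw [dl_ne _ hla, shM_some hsm]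
      simp [m, s, dl_self, Ne.symm hla]
      field_simp
      ring
    · rw [shM_keep]
      · simp [m, e]
      · intro a ha
        have hin := hkeep r (by simpa [e] using hr)
        have := hRne a (into_iff.1 hin a ha)
        simp [m, this.2.1, dl_ne _ this.2.2]
  set u2 := π (X.x p.k s) (X.e π p.l c u)
  have hu2n : ∀ r ∈ p.a :: p.l :: R, r < D.nroots := fun r hr => by
    rcases List.mem_cons.1 hr with rfl | hr
    · exact han
    rcases List.mem_cons.1 hr with rfl | hr
    · exact hln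
    · exact hpn r (List.mem_filter.1 hr).1
  have hu3 := X.word_mem π hL2 hu2n hw2 hu2
  rw [hp2, show (weta C [p.ik] p.a : F) * c1 = t by
    rcases weta_cases (C := C) [p.ik] p.a with w | w <;> simp [c1, w]] at hu3
  refine ⟨π (X.nW [p.ik] hL2) u2, fun e => ?_, ?_⟩
  · exact hc (act_injective π (X.x p.k s) (act_injective π (X.nW [p.ik] hL2) (by
      rw [map_zero, map_zero]; exact e)))
  have hfix := hl t ht _ (X.Es_mono π (fun r hr => by
    rcases List.mem_cons.1 hr with rfl | hr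
    · exact List.mem_cons_self
    · exact List.mem_cons_of_mem _ (hSl r hr)) _ hu3)
  intro r hr
  rcases List.mem_cons.1 hr with rfl | hr
  · exact hfix _ List.mem_cons_self
  · exact hfix r (hcov r hr)

end Setup

end Cfsg.Agent.Lib.E6Deg41
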