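import Cfsg.Agent.Lib.E6Deg41.Vectors

/-!
Every positive root contributes `(q - 1) q ^ (ht - 1)` to the dimension.
-/

set_option autoImplicit false

namespace Cfsg.Agent.Lib.E6Deg41

open Cfsg.Lie Cfsg.Agent.Lib.Chev Module

/-- The roots of the stratum of the `j`th positive root. -/
def stratum (j : ℕ) : List (ℕ × ℕ) × List ℕ := strata.getD j ([], [])

/-- The list of the translated and the other roots of a stratum. -/
def stratumK (j : ℕ) : List ℕ := (stratum j).1.map Prod.fst ++ (stratum j).2

theorem strata_ok : (allN 36 fun j =>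
    let b := 36 + j
    chkSplit chevE6 E (b :: above b) (stratumK j) (above b) &&
    chkTr chevE6 E ((b :: above b) ++ stratumK j) (above b) b [] (stratum j).1 &&
    decide (((stratum j).1.map Prod.fst).Nodup) &&
    ((stratum j).1.map Prod.fst).all (fun r => !Nat.beq r b && !(above b).contains r) &&
    (List.range' (37 + j) (35 - j)).all (fun r => (above b).contains r) && !(above b).contains b) = true := by
  decide +kernel

theorem lens_eq : ((List.range 36).map fun i => (stratum i).1.length) =
    [0, 0, 1, 0, 1, 2, 0, 1, 2, 3, 0, 1, 2, 3, 2, 3, 4, 4, 5, 6, 0, 1, 2, 3, 4, 3, 4, 5, 5, 6, 7, 6, 7, 8, 9, 10] := by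
  decide +kernel

/-- The sum over the strata. -/
def strataSum (q j : ℕ) : ℕ := ∑ i ∈ Finset.range j, (q - 1) * q ^ (stratum i).1.length

theorem strataSum_eq {q : ℕ} (hq : 2 ≤ q) : strataSum q 36 + 6 = target q := by
  have e : strataSum q 36 =
      ((((List.range 36).map fun i => (stratum i).1.length)).map fun n => (q - 1) * q ^ n).sum := by
    rw [List.map_map]; rfl
  rw [e, lens_eq, target]
  obtain ⟨r, rfl⟩ : ∃ r, q = r + 1 := ⟨q - 1, by omega⟩
  simp only [List.map_cons, List.map_nil, List.sum_cons, List.sum_nil, Nat.add_sub_cancel]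
  ring

variable {F : Type*} [Field F] (X : Setup chevE6 E F)

/-- Values on a list. -/
def valOn (L : List ℕ) (g : Fin L.length → F) (r : ℕ) : F :=
  if h : L.idxOf r < L.length then g ⟨L.idxOf r, h⟩ else 0

theorem valOn_apply {L : List ℕ} (hL : L.Nodup) (g : Fin L.length → F) (i : Fin L.length) :
    valOn L g L[i] = g i := by
  have h := hL.idxOf_getElem i.val i.2
  simp [valOn, h]

namespace Setup

variable [Fintype F] {V : Type*} [AddCommGroup V] [Module ℂ V] [FiniteDimensional ℂ V]
  (π : ↥(chevE6.group F) →* Module.End ℂ V)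

/-- The dimension of a stratum. -/
theorem stratum_bound (hone : ∀ t : F, t ≠ 0 → finrank ℂ (X.Es π topA (dl 71 t)) = 1) {j : ℕ} (hj : j < 36)
    {t : F} (ht : t ≠ 0) :
    Fintype.card F ^ (stratum j).1.length ≤ finrank ℂ (X.Es π ((36 + j) :: above (36 + j)) (dl (36 + j) t)) := by
  classical
  set b := 36 + j
  have hc := allN_iff.1 strata_ok j hj
  simp only [Bool.and_eq_true, decide_eq_true_eq, List.all_eq_true, Bool.not_eq_true', natBeq_eq,
    decide_eq_false_iff_not] at hc
  obtain ⟨⟨⟨⟨⟨hsplit, htr⟩, hnd⟩, hne⟩, -⟩, hbb⟩ := hc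
  simp only [Bool.eq_false_iff, ne_eq, List.contains_iff_mem] at hne hbb
  obtain ⟨v, hv0, hv⟩ := X.ex_pos π hone b (List.mem_range'_1.2 (by show 36 ≤ b ∧ b < 36 + 36; omega)) t ht
  obtain ⟨m, w, hw0, hm, hw⟩ := X.split π (stratumK j) (b :: above b) hsplit (fun a ha => List.mem_cons_of_mem _ ha)
    (dl b t) hv (fun a ha => dl_ne _ fun (e : a = b) => hbb (by subst e; exact ha)) hv0
  have hmb : m b = t := by rw [hm b List.mem_cons_self, dl_self]
  have hmZ : ∀ a ∈ above b, m a = 0 := fun a ha => by
    rw [hm a (List.mem_cons_of_mem _ ha), dl_ne _ fun (e : a = b) => hbb (by subst e; exact ha)]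
  set P := (stratum j).1.map Prod.fst
  choose m' hm'keep hm'P hm'le using fun g : Fin P.length → F =>
    X.translate π (fun a ha => List.mem_append_left _ (List.mem_cons_of_mem _ ha)) (stratum j).1 [] htr m hmZ
      (hmb ▸ ht) (valOn P g)
  have h1 : 0 < finrank ℂ (X.Es π ((b :: above b) ++ stratumK j) m) :=
    Module.finrank_pos_iff_exists_ne_zero.2 ⟨⟨w, hw⟩, fun e => hw0 (congrArg Subtype.val e)⟩
  refine le_trans ?_ (X.sep π ((b :: above b) ++ stratumK j) m'
    (fun g => X.Es π ((b :: above b) ++ stratumK j) (m' g)) (X.Es π (b :: above b) (dl b t)) (fun g => ?_) ?_)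
  · have := Finset.sum_le_sum (s := (Finset.univ : Finset (Fin P.length → F))) fun g _ =>
      (show 1 ≤ finrank ℂ (X.Es π ((b :: above b) ++ stratumK j) (m' g)) from le_trans h1 (hm'le g))
    simpa [Finset.sum_const, Fintype.card_pi, P] using this
  · refine le_inf le_rfl fun u hu r hr => ?_
    have := hu r (List.mem_append_left _ hr)
    rwa [hm'keep g r (by simpa using hr), hm r hr] at this
  · intro g g' h
    funext i
    obtain ⟨p, hp, he⟩ := List.mem_map.1 (List.getElem_mem i.2)
    have e := h P[i] (List.mem_append_right _ (List.mem_append_left _ (List.getElem_mem i.2)))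
    rw [show P[i] = p.1 from he.symm, hm'P g p hp, hm'P g' p hp, show p.1 = P[i] from he,
      valOn_apply hnd, valOn_apply hnd] at e
    exact e

/-- The strata bound the dimension. -/
theorem strata_bound (hone : ∀ t : F, t ≠ 0 → finrank ℂ (X.Es π topA (dl 71 t)) = 1) :
    strataSum (Fintype.card F) 36 ≤ finrank ℂ V := by
  classical
  have key : ∀ j ≤ 36, strataSum (Fintype.card F) j ≤
      finrank ℂ (X.Es π (List.range' (36 + j) (36 - j)) (fun _ => 0)) := by
    intro j
    induction j with
    | zero => intro _; simp [strataSum]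
    | succ j ih =>
      intro hj
      have hj' : j < 36 := hj
      set b := 36 + j
      have hc := allN_iff.1 strata_ok j hj'
      simp only [Bool.and_eq_true, List.all_eq_true, Bool.not_eq_true', List.contains_iff_mem] at hc
      obtain ⟨⟨-, hsub⟩, hbb⟩ := hc
      simp only [Bool.eq_false_iff, ne_eq, List.contains_iff_mem] at hbb
      let W : F → Submodule ℂ V := fun c =>
        if c = 0 then X.Es π (List.range' b (36 - j)) (fun _ => 0) else X.Es π (b :: above b) (dl b c)
      have hW : ∀ c, W c ≤ X.Es π [b] (dl b c) ⊓ X.Es π (List.range' (36 + (j + 1)) (36 - (j + 1))) (fun _ => 0) := by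
        intro c
        refine le_inf (fun v hv r hr => ?_) (fun v hv r hr => ?_)
        · rw [List.mem_singleton] at hr; subst hr
          by_cases hc : c = 0
          · subst hc
            simp only [W, if_pos] at hv
            rw [dl_self]; exact hv b (List.mem_range'_1.2 (by omega))
          · simp only [W, if_neg hc] at hv
            exact hv b List.mem_cons_self
        · have hr' := List.mem_range'_1.1 hr
          by_cases hc : c = 0
          · subst hc
            simp only [W, if_pos] at hv
            exact hv r (List.mem_range'_1.2 (by omega))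
          · simp only [W, if_neg hc] at hv
            have hra : r ∈ above b := hsub r (List.mem_range'_1.2 (by omega))
            have := hv r (List.mem_cons_of_mem _ hra)
            rwa [dl_ne _ (fun e : r = b => hbb (by subst e; exact hra))] at this
      refine le_trans ?_ (X.sep π [b] (fun c => dl b c) W _ hW fun c c' h => by
        simpa [dl_self] using h b (List.mem_singleton.2 rfl))
      rw [strataSum, Finset.sum_range_succ, ← Finset.add_sum_erase _ _ (Finset.mem_univ (0 : F))]
      refine add_le_add ((ih (by omega)).trans (le_of_eq (congrArg (fun U : Submodule ℂ V => finrank ℂ U) (if_pos rfl).symm))) ?_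
      refine le_trans ?_ (Finset.card_nsmul_le_sum _ _ (Fintype.card F ^ (stratum j).1.length) fun c hc => ?_)
      · simp [Finset.card_erase_of_mem]
      · have hc0 : c ≠ 0 := Finset.ne_of_mem_erase hc
        rw [show W c = X.Es π (b :: above b) (dl b c) from if_neg hc0]
        exact X.stratum_bound π hone hj' hc0
  exact (key 36 le_rfl).trans (Submodule.finrank_le _)

end Setup

end Cfsg.Agent.Lib.E6Deg41
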