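import Cfsg.Agent.Lib.E6Deg41.Certs

/-!
The characters of the abelian radical: a small representation has one character per orbit.
-/

set_option autoImplicit false

namespace Cfsg.Agent.Lib.E6Deg41

open Cfsg.Lie Cfsg.Agent.Lib.Chev Module

/-- The bound. -/
def target (q : ℕ) : ℕ := q * (q ^ 6 + q ^ 3 + 1) * (q ^ 4 + 1)

theorem target_le {q : ℕ} (hq : 2 ≤ q) :
    target q ≤ 2 * ((q - 1) * (q ^ 10 + q ^ 9)) ∧ target q ≤ q ^ 12 := by
  obtain ⟨r, rfl⟩ : ∃ r, q = r + 2 := ⟨q - 2, by omega⟩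
  rw [show r + 2 - 1 = r + 1 by omega, target]
  constructor
  · ring_nf; omega
  · ring_nf; omega

variable {F : Type*} [Field F] (X : Setup chevE6 E F)

/-- Values on the roots adjacent to the highest root. -/
def adjVal (g : Fin 10 → F) (r : ℕ) : F := if h : 70 - r < 10 then g ⟨70 - r, h⟩ else 0

theorem adjVal_apply (g : Fin 10 → F) (i : Fin 10) : adjVal g (70 - i.val) = g i := by
  have h : 70 - (70 - i.val) = i.val := by have := i.2; omega
  simp [adjVal, h]

theorem topP_mem {r : ℕ} (h : 61 ≤ r) (h' : r ≤ 70) : ∃ p ∈ topP, p.1 = r :=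
  ⟨(70 - (70 - r), 46 + (70 - r)), List.mem_map.2 ⟨70 - r, List.mem_range.2 (by omega), rfl⟩, by dsimp; omega⟩

theorem mem_topA {r : ℕ} : r ∈ topA ↔ 56 ≤ r ∧ r ≤ 71 := by
  simp [topA, List.mem_range'_1]; omega

theorem mem_topL {r : ℕ} : r ∈ topL ↔ 61 ≤ r ∧ r ≤ 71 := by
  simp [topL, List.mem_range'_1]; omega

namespace Setup

variable [Fintype F] {V : Type*} [AddCommGroup V] [Module ℂ V] [FiniteDimensional ℂ V]
  (π : ↥(chevE6.group F) →* Module.End ℂ V)

/-- Translation on `topA` or on `topL`. -/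
theorem translate_top {L : List ℕ} (h : chkTr chevE6 E L [] 71 [] topP = true) {m : ℕ → F} (hm : m 71 ≠ 0)
    (g : ℕ → F) : ∃ m' : ℕ → F, m' 71 = m 71 ∧ (∀ r, 61 ≤ r → r ≤ 70 → m' r = g r) ∧
      finrank ℂ (X.Es π L m) ≤ finrank ℂ (X.Es π L m') := by
  obtain ⟨m', h1, h2, h3⟩ := X.translate π (by simp) topP [] h m (by simp) hm g
  refine ⟨m', h1 71 (by simp), fun r h h' => ?_, h3⟩
  obtain ⟨p, hp, rfl⟩ := topP_mem h h'
  exact h2 p hp

/-- All characters of the adjacent roots follow the highest root. -/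
theorem adj_bound (t : F) (ht : t ≠ 0) :
    Fintype.card F ^ 10 * finrank ℂ (X.Es π topL (dl 71 t)) ≤ finrank ℂ V := by
  classical
  choose m hm71 hmg hle using fun g : Fin 10 → F =>
    X.translate_top π tr_topL (m := dl 71 t) (by rwa [dl_self]) (adjVal g)
  refine le_trans ?_ ((X.sep π topL m (fun g => X.Es π topL (m g)) ⊤ (fun g => le_inf le_rfl le_top) ?_).trans
    (finrank_top ℂ V).le)
  · have h := Finset.sum_le_sum (s := (Finset.univ : Finset (Fin 10 → F))) fun g _ => hle g
    simpa [Finset.sum_const, Fintype.card_pi] using h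
  · intro g g' h
    funext i
    have h1 := h (70 - i.val) (mem_topL.2 (by omega))
    rw [hmg g _ (by omega) (by omega), hmg g' _ (by omega) (by omega), adjVal_apply, adjVal_apply] at h1
    exact h1

/-- A character with a residual coordinate gives at least `q²` characters. -/
theorem residual_bound {t : F} {m : ℕ → F} (h71 : m 71 = t) (hadj : ∀ r, 61 ≤ r → r ≤ 70 → m r = 0)
    {a : ℕ} (ha : a ∈ List.range' 56 5) (hma : m a ≠ 0) (hne : X.Es π topA m ≠ ⊥) :
    Fintype.card F ^ 2 ≤ finrank ℂ (X.Es π topL (dl 71 t)) := by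
  classical
  obtain ⟨⟨a', b1, η1, b2, η2⟩, hp, he⟩ := List.any_eq_true.1 (List.all_eq_true.1 res_cover a ha)
  rw [natBeq_eq, decide_eq_true_eq] at he
  obtain rfl : a' = a := he
  have hb : a' ∈ topA ∧ b1 ∈ topA ∧ b2 ∈ topA ∧ b1 ≠ b2 ∧ a' ≠ b1 ∧ a' ≠ b2 ∧ b1 < 61 ∧ b2 < 61 := by
    have : resTab.all (fun p => topA.contains p.1 && topA.contains p.2.1 && topA.contains p.2.2.2.1 &&
      decide (p.2.1 ≠ p.2.2.2.1) && decide (p.1 ≠ p.2.1) && decide (p.1 ≠ p.2.2.2.1) && decide (p.2.1 < 61) &&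
      decide (p.2.2.2.1 < 61)) = true := by decide
    simpa [and_assoc] using List.all_eq_true.1 this _ hp
  obtain ⟨haA, hb1A, hb2A, hb12, hab1, hab2, hb1, hb2⟩ := hb
  have hc := List.all_eq_true.1 res_ok _ hp
  simp only [Bool.and_eq_true, List.all_eq_true] at hc
  obtain ⟨⟨hmv1, hmv2⟩, htab⟩ := hc
  have key : ∀ (m : ℕ → F), (∀ r, 61 ≤ r → r ≤ 70 → m r = 0) → ∀ (η b : ℕ),
      (∀ r ∈ topA, (bif Nat.beq r b then sm E η r == some a' else into E η r (List.range' 61 10)) = true) →
      ∀ s, ∀ r ∈ topA, shM E η s m r = if r = b then m b - (Nc E η b : F) * s * m a' else m r := by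
    intro m hm η b h s r hr
    have := h r hr
    by_cases e : r = b
    · subst e
      rw [show Nat.beq r r = true by simp [natBeq_eq]] at this
      rw [if_pos rfl]
      exact shM_some (by simpa using this) s m
    · rw [show Nat.beq r b = false by simpa [natBeq_eq] using e] at this
      rw [if_neg e]
      refine shM_keep (fun x hx => ?_) s
      have hx' := List.mem_range'_1.1 (into_iff.1 this x hx)
      exact hm x (by omega) (by omega)
  have k1 := key m hadj η1 b1 (fun r hr => (htab r hr).1)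
  have hadj1 : ∀ s, ∀ r, 61 ≤ r → r ≤ 70 → shM E η1 s m r = 0 := fun s r h h' => by
    rw [k1 s r (mem_topA.2 (by omega)), if_neg (by omega), hadj r h h']
  have k2 := fun s => key (shM E η1 s m) (hadj1 s) η2 b2 (fun r hr => (htab r hr).2)
  let M : F × F → ℕ → F := fun s => shM E η2 s.2 (shM E η1 s.1 m)
  have hN : (Nc E η1 b1 : F) ≠ 0 ∧ (Nc E η2 b2 : F) ≠ 0 := by
    obtain ⟨h1, h1'⟩ := chkMove_iff.1 hmv1
    obtain ⟨h2, h2'⟩ := chkMove_iff.1 hmv2
    have e1 := (htab b1 hb1A).1
    have e2 := (htab b2 hb2A).2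
    rw [show Nat.beq b1 b1 = true by simp [natBeq_eq]] at e1
    rw [show Nat.beq b2 b2 = true by simp [natBeq_eq]] at e2
    exact ⟨(X.Nc_unit h1 (h1' b1 hb1A).1 (h1' b1 hb1A).2.1 (by simpa using e1)).2,
      (X.Nc_unit h2 (h2' b2 hb2A).1 (h2' b2 hb2A).2.1 (by simpa using e2)).2⟩
  have hpos : 1 ≤ finrank ℂ (X.Es π topA m) := by
    rcases Nat.eq_zero_or_pos (finrank ℂ (X.Es π topA m)) with e | e
    · exact absurd (Submodule.finrank_eq_zero.1 e) hne
    · exact e
  have hW : ∀ s, X.Es π topA (M s) ≤ X.Es π topA (M s) ⊓ X.Es π topL (dl 71 t) := by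
    intro s
    refine le_inf le_rfl fun v hv r hr => ?_
    have hr' := mem_topL.1 hr
    have : dl 71 t r = M s r := by
      show _ = shM E η2 s.2 (shM E η1 s.1 m) r
      rw [k2 _ _ r (mem_topA.2 (by omega)), if_neg (by omega), k1 _ r (mem_topA.2 (by omega)), if_neg (by omega)]
      by_cases e : r = 71
      · subst e; rw [dl_self, h71]
      · rw [dl_ne _ e, hadj r hr'.1 (by omega)]
    rw [this]
    exact hv r (mem_topA.2 (by omega))
  refine le_trans ?_ (X.sep π topA M (fun s => X.Es π topA (M s)) (X.Es π topL (dl 71 t)) hW ?_)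
  · have hle : ∀ s ∈ (Finset.univ : Finset (F × F)), 1 ≤ finrank ℂ (X.Es π topA (M s)) := fun s _ =>
      hpos.trans ((finrank_le_of_map π (X.x η1 s.1) fun v hv => X.move_mem π hmv1 s.1 hv).trans
        (finrank_le_of_map π (X.x η2 s.2) fun v hv => X.move_mem π hmv2 s.2 hv))
    have h := Finset.sum_le_sum hle
    simpa [pow_two] using h
  · intro s s' h
    have e1 := h b1 hb1A
    have e2 := h b2 hb2A
    simp only [M, k2 _ _ b1 hb1A, k2 _ _ b2 hb2A, if_neg hb12, if_pos, k1 _ b1 hb1A, k1 _ b2 hb2A,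
      if_neg hb12.symm, k1 _ a' haA, if_neg hab1] at e1 e2
    exact Prod.ext (mul_left_cancel₀ hN.1 (mul_right_cancel₀ hma (sub_right_injective e1)))
      (mul_left_cancel₀ hN.2 (mul_right_cancel₀ hma (sub_right_injective e2)))

/-- Without residual coordinates the residual roots act trivially. -/
theorem topL_le {t : F} (hno : ∀ m : ℕ → F, m 71 = t → (∀ r, 61 ≤ r → r ≤ 70 → m r = 0) →
    X.Es π topA m ≠ ⊥ → ∀ a ∈ List.range' 56 5, m a = 0) :
    X.Es π topL (dl 71 t) ≤ X.Es π topA (dl 71 t) := fun v hv r hr => by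
  classical
  by_cases hr' : 61 ≤ r
  · exact hv r (mem_topL.2 ⟨hr', (mem_topA.1 hr).2⟩)
  have hres : r ∈ List.range' 56 5 := List.mem_range'_1.2 ⟨(mem_topA.1 hr).1, by omega⟩
  rw [dl_ne _ (by omega)]
  by_contra hcon
  obtain ⟨c, hc, hne⟩ := X.exists_component_ne π hcon
  have hchk := List.all_eq_true.1 split_res r hres
  rw [Bool.and_eq_true] at hchk
  let m1 : ℕ → F := fun s => if s = r then c else dl 71 t s
  have h1 := X.e_Es π hchk.1 hv (Z := []) (by simp) c
  have hw1 : X.e π r c v ∈ X.Es π (topL ++ [r]) m1 := fun s hs => by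
    by_cases e : s = r
    · subst e; simpa [m1] using X.e_eig π s c v
    · have hsL : s ∈ topL := by simpa [e] using hs
      simpa [m1, e] using h1 s hsL
  obtain ⟨m', w, hw0, he, hw⟩ := X.split π topA (topL ++ [r]) hchk.2 (by simp) m1 hw1 (by simp) hne
  have hv71 : m' 71 = t := by
    rw [he 71 (List.mem_append_left _ (mem_topL.2 (by omega)))]
    simp [m1, show (71 : ℕ) ≠ r by omega, dl_self]
  have := hno m' hv71 (fun s h h' => by
      rw [he s (List.mem_append_left _ (mem_topL.2 (by omega)))]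
      simp [m1, show s ≠ r by omega, dl_ne _ (show s ≠ 71 by omega)])
    (fun e => hw0 ((Submodule.eq_bot_iff _).1 e w (X.Es_mono π (fun s hs => List.mem_append_right _ hs) m' hw)))
    r hres
  rw [he r (by simp)] at this
  exact hc (by simpa [m1] using this)

/-- The character on the highest root and on its neighbour `70`. -/
def pr (t d : F) (r : ℕ) : F := if r = 71 then t else if r = 70 then d else 0

/-- The multiplicity does not depend on the value at the highest root. -/
theorem top_const {t t' : F} (ht : t ≠ 0) (ht' : t' ≠ 0) :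
    finrank ℂ (X.Es π topA (dl 71 t)) ≤ finrank ℂ (X.Es π topA (dl 71 t')) := by
  have hc := shift_pair
  simp only [Bool.and_eq_true, List.all_eq_true] at hc
  obtain ⟨⟨hm46, hm25⟩, htab⟩ := hc
  have k46 : ∀ (s t d : F), ∀ r ∈ topA, shM E 46 s (pr t d) r = pr t (d - (Nc E 46 70 : F) * s * t) r := by
    intro s t d r hr
    have h := (htab r hr).1
    by_cases e : r = 70
    · subst e
      rw [show Nat.beq 70 70 = true by rfl] at h
      rw [shM_some (by simpa using h)]
      simp [pr]
    · rw [show Nat.beq r 70 = false by simpa [natBeq_eq] using e] at h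
      simp only [cond_false, Bool.and_eq_true, Bool.not_eq_true', beq_eq_false_iff_ne, ne_eq] at h
      rw [shM_keep]
      · simp [pr, e]
      · intro a ha
        have h1 : a ≠ 70 := fun e' => h.1 (e' ▸ ha)
        have h2 : a ≠ 71 := fun e' => h.2 (e' ▸ ha)
        simp [pr, h1, h2]
  have k25 : ∀ (s t d : F), ∀ r ∈ topA, shM E 25 s (pr t d) r = pr (t - (Nc E 25 71 : F) * s * d) d r := by
    intro s t d r hr
    have h := (htab r hr).2
    by_cases e : r = 71
    · subst e
      rw [show Nat.beq 71 71 = true by rfl] at h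
      rw [shM_some (by simpa using h)]
      simp [pr]
    · rw [show Nat.beq r 71 = false by simpa [natBeq_eq] using e] at h
      simp only [cond_false, Bool.and_eq_true, Bool.not_eq_true', beq_eq_false_iff_ne, ne_eq] at h
      rw [shM_keep]
      · simp [pr, e]
      · intro a ha
        have h1 : a ≠ 70 := fun e' => h.1 (e' ▸ ha)
        have h2 : a ≠ 71 := fun e' => h.2 (e' ▸ ha)
        simp [pr, h1, h2]
  have hn46 : (Nc E 46 70 : F) ≠ 0 :=
    (X.Nc_unit (a := 71) (show 46 < chevE6.nroots by decide) (show 70 < chevE6.nroots by decide)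
      (by decide +kernel) (by decide +kernel)).2
  have hn25 : (Nc E 25 71 : F) ≠ 0 :=
    (X.Nc_unit (a := 70) (show 25 < chevE6.nroots by decide) (show 71 < chevE6.nroots by decide)
      (by decide +kernel) (by decide +kernel)).2
  have step : ∀ (η : ℕ) (s : F) {m m' : ℕ → F}, chkMove chevE6 E η topA topA = true →
      (∀ r ∈ topA, shM E η s m r = m' r) → finrank ℂ (X.Es π topA m) ≤ finrank ℂ (X.Es π topA m') :=
    fun η s m m' hη h => finrank_le_of_map π (X.x η s) fun v hv => X.Es_congr π h ▸ X.move_mem π hη s hv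
  have hpr : ∀ (u : F), dl 71 u = pr u 0 := fun u => funext fun r => by
    unfold dl pr; split_ifs <;> rfl
  rw [hpr, hpr]
  refine (step 46 (-(1 / ((Nc E 46 70 : F) * t))) (m' := pr t 1) hm46 fun r hr => ?_).trans
    ((step 25 ((t - t') / (Nc E 25 71 : F)) (m' := pr t' 1) hm25 fun r hr => ?_).trans ?_)
  · rw [k46 _ _ _ r hr]; congr 1; field_simp; ring
  · rw [k25 _ _ _ r hr]; congr 1; field_simp; ring
  · refine step 46 (1 / ((Nc E 46 70 : F) * t')) hm46 fun r hr => ?_
    rw [k46 _ _ _ r hr]; congr 1; field_simp; ring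

/-- The word of the second family of characters. -/
theorem word_swap : ((topA.all fun r => topA.contains (refl E 1 r) && Nat.beq (refl E 1 (refl E 1 r)) r) &&
    Nat.beq (refl E 1 70) 71) = true := by decide +kernel

/-- Either the bound holds or every character of `topA` at the highest root occurs once. -/
theorem top_dichotomy (hq : 2 ≤ Fintype.card F) {t₀ : F} {v₀ : V} (hv₀ : π (X.x 71 t₀) v₀ ≠ v₀) :
    target (Fintype.card F) ≤ finrank ℂ V ∨ ∀ t : F, t ≠ 0 →
      finrank ℂ (X.Es π topA (dl 71 t)) = 1 ∧ X.Es π topL (dl 71 t) ≤ X.Es π topA (dl 71 t) := by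
  classical
  obtain ⟨htg1, htg2⟩ := target_le hq
  by_cases hI : ∃ (t : F) (m : ℕ → F) (a : ℕ), t ≠ 0 ∧ m 71 = t ∧ (∀ r, 61 ≤ r → r ≤ 70 → m r = 0) ∧
      a ∈ List.range' 56 5 ∧ m a ≠ 0 ∧ X.Es π topA m ≠ ⊥
  · obtain ⟨t, m, a, ht, h71, hadj, ha, hma, hne⟩ := hI
    refine Or.inl (le_trans htg2 (le_trans ?_ (X.adj_bound π t ht)))
    rw [show (Fintype.card F) ^ 12 = Fintype.card F ^ 10 * Fintype.card F ^ 2 by ring]
    exact Nat.mul_le_mul_left _ (X.residual_bound π h71 hadj ha hma hne)
  push Not at hI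
  have hle : ∀ t : F, t ≠ 0 → X.Es π topL (dl 71 t) ≤ X.Es π topA (dl 71 t) := fun t ht =>
    X.topL_le π fun m h71 hadj hne a ha => by_contra fun hma => hne (hI t m a ht h71 hadj ha hma)
  -- some character occurs
  have hfix : ¬X.Eig π 71 0 v₀ := fun e => hv₀ ((X.eig_zero_iff π).1 e t₀)
  obtain ⟨t₁, ht₁, hw⟩ := X.exists_component_ne π hfix
  obtain ⟨m', w, hw0, he, hwE⟩ := X.split π topA [71] split_topA (by simp) (dl 71 t₁)
    (v := X.e π 71 t₁ v₀) (fun r hr => by
      rw [List.mem_singleton] at hr; subst hr; rw [dl_self]; exact X.e_eig π 71 t₁ v₀) (by simp) hw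
  have h71 : m' 71 = t₁ := by rw [he 71 (List.mem_singleton.2 rfl), dl_self]
  obtain ⟨m'', hm71, hmadj, hmle⟩ := X.translate_top π tr_topA (m := m') (h71 ▸ ht₁) (fun _ => 0)
  have hres : ∀ a ∈ List.range' 56 5, m'' a = 0 := fun a ha => by_contra fun hma => by
    have h0 := hI t₁ m'' a ht₁ (hm71.trans h71) hmadj ha hma
    have hmem : w ∈ X.Es π topA m' := X.Es_mono π (fun s hs => List.mem_append_right _ hs) m' hwE
    have h1 : 0 < finrank ℂ (X.Es π topA m') :=
      Module.finrank_pos_iff_exists_ne_zero.2 ⟨⟨w, hmem⟩, fun e => hw0 (congrArg Subtype.val e)⟩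
    rw [h0, finrank_bot] at hmle
    omega
  have hn₁ : 1 ≤ finrank ℂ (X.Es π topA (dl 71 t₁)) := by
    have e : X.Es π topA m'' = X.Es π topA (dl 71 t₁) := X.Es_congr π fun r hr => by
      have hr' := mem_topA.1 hr
      by_cases e : r = 71
      · subst e; rw [dl_self, hm71, h71]
      · rw [dl_ne _ e]
        by_cases e' : 61 ≤ r
        · exact hmadj r e' (by omega)
        · exact hres r (List.mem_range'_1.2 ⟨hr'.1, by omega⟩)
    have hmem : w ∈ X.Es π topA m' := X.Es_mono π (fun s hs => List.mem_append_right _ hs) m' hwE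
    have h1 : 0 < finrank ℂ (X.Es π topA m') :=
      Module.finrank_pos_iff_exists_ne_zero.2 ⟨⟨w, hmem⟩, fun e => hw0 (congrArg Subtype.val e)⟩
    rw [e] at hmle
    omega
  set n := finrank ℂ (X.Es π topA (dl 71 t₁)) with hn
  have hconst : ∀ t : F, t ≠ 0 → finrank ℂ (X.Es π topA (dl 71 t)) = n := fun t ht =>
    le_antisymm (X.top_const π ht ht₁) (X.top_const π ht₁ ht)
  rcases Nat.lt_or_ge n 2 with h | h
  · exact Or.inr fun t ht => ⟨by rw [hconst t ht]; omega, hle t ht⟩
  refine Or.inl (le_trans htg1 ?_)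
  -- two families of characters
  choose mA hA71 hAadj hAle using fun p : {t : F // t ≠ 0} × (Fin 10 → F) =>
    X.translate_top π tr_topA (m := dl 71 p.1.1) (by rw [dl_self]; exact p.1.2) (adjVal p.2)
  let cons0 : (Fin 9 → F) → Fin 10 → F := fun g => Fin.cons 0 g
  let mB : {t : F // t ≠ 0} × (Fin 9 → F) → ℕ → F := fun p r =>
    (weta E [1] (refl E 1 r) : F) * mA (p.1, cons0 p.2) (refl E 1 r)
  have hsw := word_swap
  simp only [Bool.and_eq_true, List.all_eq_true, List.contains_iff_mem, natBeq_eq, decide_eq_true_eq] at hsw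
  have h70 : ∀ p : {t : F // t ≠ 0} × (Fin 9 → F), mA (p.1, cons0 p.2) 70 = 0 := fun p => by
    rw [hAadj _ 70 (by omega) le_rfl, show (70 : ℕ) = 70 - (0 : Fin 10).val from rfl, adjVal_apply]
    rfl
  have hB71 : ∀ p : {t : F // t ≠ 0} × (Fin 9 → F), mB p 71 = 0 := fun p => by
    have h1 : refl E 1 71 = 70 := by decide +kernel
    simp only [mB, h1, h70, mul_zero]
  have hw1 : IsWord chevE6 [1] := fun i hi => by
    rw [List.mem_singleton] at hi; subst hi; show 1 < 6; omega
  let M : ({t : F // t ≠ 0} × (Fin 10 → F)) ⊕ ({t : F // t ≠ 0} × (Fin 9 → F)) → ℕ → F := Sum.elim mA mB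
  have hdim : ∀ i, 2 ≤ finrank ℂ (X.Es π topA (M i)) := by
    rintro (p | p)
    · exact le_trans (by rw [hconst _ p.1.2]; exact h) (hAle p)
    · refine le_trans (le_trans (by rw [hconst _ p.1.2]; exact h) (hAle (p.1, cons0 p.2)))
        (finrank_le_of_map π (X.nW [1] hw1) fun v hv r hr => ?_)
      have hr1 := hsw.1 r hr
      have := X.eig_word π hw1 (show refl E 1 r < chevE6.nroots by
        show refl E 1 r < 72; have := mem_topA.1 hr1.1; omega) (hv _ hr1.1)
      rw [show perm E [1] (refl E 1 r) = r from hr1.2] at this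
      exact this
  have hinjA : ∀ p p', (∀ r ∈ topA, mA p r = mA p' r) → p = p' := fun p p' e => by
    refine Prod.ext (Subtype.ext ?_) (funext fun i => ?_)
    · have := e 71 (mem_topA.2 (by omega))
      rwa [hA71, hA71, dl_self, dl_self] at this
    · have := e (70 - i.val) (mem_topA.2 (by omega))
      rwa [hAadj _ _ (by omega) (by omega), hAadj _ _ (by omega) (by omega), adjVal_apply, adjVal_apply] at this
  have hcase : ∀ p q, ¬∀ r ∈ topA, mA p r = mB q r := fun p q e => p.1.2 (by
    have := e 71 (mem_topA.2 (by omega))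
    rwa [hB71, hA71, dl_self] at this)
  refine le_trans ?_ ((X.sep π topA M (fun i => X.Es π topA (M i)) ⊤ (fun i => le_inf le_rfl le_top) ?_).trans
    (finrank_top ℂ V).le)
  · have := Finset.sum_le_sum (s := Finset.univ) fun i (_ : i ∈ Finset.univ) => hdim i
    refine le_trans ?_ this
    simp [Fintype.card_pi, Fintype.card_subtype_compl, Fintype.card_sum]
    apply le_of_eq
    ring
  · rintro (p | p) (p' | p') e
    · exact congrArg Sum.inl (hinjA p p' e)
    · exact absurd e (hcase p p')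
    · exact absurd (fun r hr => (e r hr).symm) (hcase p' p)
    · refine congrArg Sum.inr ?_
      have h1 := hinjA (p.1, cons0 p.2) (p'.1, cons0 p'.2) fun r hr => by
        have hr1 := hsw.1 r hr
        have := e (refl E 1 r) hr1.1
        simp only [M, Sum.elim_inr, mB, hr1.2] at this
        exact mul_left_cancel₀ (weta_ne [1] r) this
      obtain ⟨e1, e2⟩ := Prod.mk.inj h1
      exact Prod.ext e1 ((Fin.cons_injective2 e2).2)

end Setup

end Cfsg.Agent.Lib.E6Deg41
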