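import Cfsg.Agent.Lib.E6Deg41.Top
import Cfsg.Agent.Lib.E6Deg41.Simple

/-!
Vectors at every positive root of `E₆`.
-/

set_option autoImplicit false

namespace Cfsg.Agent.Lib.E6Deg41

open Cfsg.Lie Cfsg.Agent.Lib.Chev Module

def fixS56 : List ℕ := [57, 58, 59, 60, 61, 62, 63, 64, 65, 66, 67, 68, 69, 70, 71]
def fixF56 : List ℕ := [22, 23, 24, 25, 30, 31, 32, 33, 34, 35, 36, 37, 38, 39, 40, 41, 42, 43, 44, 45, 46, 47, 48, 49, 50, 51, 52, 53, 54, 55, 57, 58, 59, 60, 61, 62, 63, 64, 65, 66, 67, 68, 69, 70, 71]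
def fixS42 : List ℕ := [43, 44, 45, 50, 51, 52, 53, 54, 55, 57, 58, 59, 60, 61, 62, 63, 64, 65, 66, 67, 68, 69, 70, 71]
def fixF42 : List ℕ := [25, 33, 34, 35, 36, 37, 38, 39, 40, 41, 43, 44, 45, 46, 47, 48, 49, 50, 51, 52, 53, 54, 55, 56, 57, 58, 59, 60, 61, 62, 63, 64, 65, 66, 67, 68, 69, 70, 71]
def fixS39 : List ℕ := [40, 41, 43, 44, 45, 47, 48, 49, 50, 51, 52, 53, 54, 55, 56, 57, 58, 59, 60, 61, 62, 63, 64, 65, 66, 67, 68, 69, 70, 71]
def fixF39 : List ℕ := [35, 36, 37, 38, 40, 41, 42, 43, 44, 45, 46, 47, 48, 49, 50, 51, 52, 53, 54, 55, 56, 57, 58, 59, 60, 61, 62, 63, 64, 65, 66, 67, 68, 69, 70, 71]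
def fixS46 : List ℕ := [37, 38, 40, 41, 42, 43, 44, 45, 47, 48, 49, 50, 51, 52, 53, 54, 55, 56, 57, 58, 59, 60, 61, 62, 63, 64, 65, 66, 67, 68, 69, 70, 71]
def fixF46 : List ℕ := [35, 36, 37, 38, 39, 40, 41, 42, 43, 44, 45, 47, 48, 49, 50, 51, 52, 53, 54, 55, 56, 57, 58, 59, 60, 61, 62, 63, 64, 65, 66, 67, 68, 69, 70, 71]
def fixS37 : List ℕ := [38, 40, 41, 42, 43, 44, 45, 46, 47, 48, 49, 50, 51, 52, 53, 54, 55, 56, 57, 58, 59, 60, 61, 62, 63, 64, 65, 66, 67, 68, 69, 70, 71]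
def fixF37 : List ℕ := [36, 38, 39, 40, 41, 42, 43, 44, 45, 46, 47, 48, 49, 50, 51, 52, 53, 54, 55, 56, 57, 58, 59, 60, 61, 62, 63, 64, 65, 66, 67, 68, 69, 70, 71]
def fixS36 : List ℕ := [38, 39, 40, 41, 42, 43, 44, 45, 46, 47, 48, 49, 50, 51, 52, 53, 54, 55, 56, 57, 58, 59, 60, 61, 62, 63, 64, 65, 66, 67, 68, 69, 70, 71]
def fixF36 : List ℕ := [37, 38, 39, 40, 41, 42, 43, 44, 45, 46, 47, 48, 49, 50, 51, 52, 53, 54, 55, 56, 57, 58, 59, 60, 61, 62, 63, 64, 65, 66, 67, 68, 69, 70, 71]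

def strata : List (List (ℕ × ℕ) × List ℕ) :=
  [([], []),
   ([], []),
   ([(36, 37)], []),
   ([], []),
   ([(37, 39)], []),
   ([(38, 39), (40, 36)], []),
   ([], []),
   ([(39, 42)], []),
   ([(40, 42), (43, 37)], []),
   ([(41, 42), (44, 36), (38, 43)], []),
   ([], []),
   ([(39, 46)], []),
   ([(40, 46), (47, 37)], []),
   ([(41, 46), (48, 36), (38, 47)], []),
   ([(43, 46), (47, 42)], []),
   ([(44, 46), (48, 42), (50, 37)], []),
   ([(45, 46), (49, 42), (51, 36), (50, 38)], [41, 44, 48]),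
   ([(51, 39), (44, 47), (48, 43), (50, 40)], []),
   ([(52, 39), (53, 36), (45, 47), (49, 43), (41, 50)], [51]),
   ([(54, 37), (52, 40), (53, 38), (45, 48), (49, 44), (51, 41)], []),
   ([], []),
   ([(42, 56)], []),
   ([(43, 56), (57, 39)], []),
   ([(44, 56), (58, 37), (40, 57)], []),
   ([(45, 56), (59, 36), (41, 57), (58, 38)], [44]),
   ([(50, 56), (58, 46), (47, 57)], []),
   ([(51, 56), (59, 46), (61, 37), (48, 57)], [44, 50, 58]),
   ([(52, 56), (60, 46), (62, 36), (49, 57), (61, 38)], [45, 51, 59]),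
   ([(53, 56), (62, 39), (59, 47), (61, 40), (48, 58)], [51]),
   ([(54, 56), (63, 39), (64, 36), (60, 47), (49, 58), (61, 41)], [52, 53, 62, 45, 51, 59]),
   ([(55, 56), (65, 37), (63, 40), (64, 38), (60, 48), (62, 41), (49, 59)], [54, 52, 53]),
   ([(64, 42), (53, 57), (62, 43), (51, 58), (59, 50), (61, 44)], []),
   ([(65, 42), (67, 36), (54, 57), (63, 43), (52, 58), (60, 50), (45, 61)], [64, 53, 62]),
   ([(66, 42), (68, 37), (55, 57), (67, 38), (63, 44), (52, 59), (60, 51), (62, 45)], [65, 54, 64, 53]),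
   ([(69, 39), (66, 43), (68, 40), (55, 58), (65, 44), (67, 41), (54, 59), (64, 45), (53, 60)], [63]),
   ([(70, 46), (69, 47), (66, 50), (68, 48), (55, 61), (65, 51), (67, 49), (54, 62), (63, 53), (64, 52)], [])]
def upTab : List (ℕ × ℕ × ℕ) :=
  [(38, 4, 36), (40, 3, 37), (41, 3, 38), (43, 2, 39), (44, 2, 40), (45, 2, 41), (47, 1, 39), (48, 1, 40), (49, 1, 41), (50, 1, 43), (51, 1, 44), (52, 1, 45), (53, 3, 51), (54, 3, 52), (55, 4, 54), (57, 0, 42), (58, 0, 43), (59, 0, 44), (60, 0, 45), (61, 0, 50), (62, 0, 51), (63, 0, 52), (64, 0, 53), (65, 0, 54), (66, 0, 55), (67, 2, 64), (68, 2, 65), (69, 2, 66), (70, 3, 69), (71, 1, 70)]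

def links : List (Link × List ℕ × List ℕ × List ℕ × List ℕ) :=
  [(⟨56, 42, 57, 2, 0⟩, fixS56, fixF56, fixS42, fixF42), (⟨42, 39, 43, 3, 2⟩, fixS42, fixF42, fixS39, fixF39),
   (⟨39, 46, 47, 1, 3⟩, fixS39, fixF39, fixS46, fixF46), (⟨39, 37, 40, 4, 3⟩, fixS39, fixF39, fixS37, fixF37),
   (⟨37, 36, 38, 5, 4⟩, fixS37, fixF37, fixS36, fixF36)]

/-- The positive roots not below `b`. -/
def above (b : ℕ) : List ℕ :=
  (posL chevE6).filter fun r => !allN 6 fun j => decide (coef chevE6 E j r ≤ coef chevE6 E j b)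

theorem prop_ok : (links.all fun p => chkProp chevE6 E p.1 p.2.1 p.2.2.1 p.2.2.2.1 p.2.2.2.2) = true := by
  decide +kernel

theorem ex_ok : (links.all fun p => chkEx chevE6 E p.1 p.2.2.2.1 p.2.2.2.2) = true := by decide +kernel

theorem base_ok : ((posL chevE6).all (fun r => (56 :: fixF56).contains r) &&
    fixS56.all (fun r => topA.contains r && !Nat.beq r 56) &&
    topA.all (fun r => (56 :: fixS56).contains r) &&
    fixF56.all (fun r => fixS56.contains r || baseRep.any fun q => Nat.beq q.1 r) && !fixF56.contains 56) = true := by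
  decide +kernel

theorem up_ok : (upTab.all fun p =>
    Nat.blt p.2.1 6 && Nat.blt p.2.2 p.1 && Nat.ble 36 p.2.2 && Nat.beq (perm E [p.2.1] p.2.2) p.1 &&
    chkWord E [p.2.1] p.2.2 (p.2.2 :: above p.2.2) (p.1 :: above p.1)) = true := by decide +kernel

theorem up_cover : ((posL chevE6).all fun b => [56, 46, 42, 39, 37, 36].contains b ||
    upTab.any fun p => Nat.beq p.1 b) = true := by decide +kernel

variable {F : Type*} [Field F] (X : Setup chevE6 E F)

namespace Setup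

variable [Fintype F] {V : Type*} [AddCommGroup V] [Module ℂ V] [FiniteDimensional ℂ V]
  (π : ↥(chevE6.group F) →* Module.End ℂ V)

/-- The base character. -/
theorem base_line (hone : ∀ t : F, t ≠ 0 → finrank ℂ (X.Es π topA (dl 71 t)) = 1) {t : F} (ht : t ≠ 0) :
    finrank ℂ (X.Es π topA (dl 56 t)) = 1 := by
  have hw := word_base
  rw [Bool.and_eq_true] at hw
  have hA : ∀ r ∈ topA, r < chevE6.nroots := fun r hr => by
    show r < 72; have := mem_topA.1 hr; omega
  refine le_antisymm ?_ ?_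
  · have := X.word_finrank π isWord_baseW_rev hA hw.2 t
    rw [perm_base.2, hone _ (mul_ne_zero (weta_ne _ _) ht)] at this
    exact this
  · have h0 : (weta E baseW 71 : F) * t ≠ 0 := mul_ne_zero (weta_ne _ _) ht
    have := X.word_finrank π isWord_baseW hA hw.1 ((weta E baseW 71 : F) * t)
    rw [perm_base.1, hone _ h0] at this
    rcases weta_cases (C := E) baseW 71 with w | w <;> simpa [w] using this

/-- At the first fundamental root eigenvectors are fixed by the stabiliser. -/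
theorem fix_base (hone : ∀ t : F, t ≠ 0 → finrank ℂ (X.Es π topA (dl 71 t)) = 1) :
    X.FixP π 56 fixS56 fixF56 := by
  intro t ht v hv
  by_cases hv0 : v = 0
  · subst hv0; exact zero_mem _
  have hb := base_ok
  simp only [Bool.and_eq_true, List.all_eq_true, List.contains_iff_mem, Bool.or_eq_true, Bool.not_eq_true',
    List.any_eq_true, natBeq_eq, decide_eq_true_eq] at hb
  obtain ⟨⟨⟨⟨-, hS⟩, hcov⟩, hF⟩, h56⟩ := hb
  simp only [Bool.eq_false_iff, ne_eq, List.contains_iff_mem] at h56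
  have hvA : v ∈ X.Es π topA (dl 56 t) := X.Es_mono π hcov _ hv
  have scal : ∀ p ∈ baseRep, ∀ s, ∃ c : ℂ, π (X.x p.1 s) v = c • v := by
    intro p hp s
    have hc := List.all_eq_true.1 stab_base p hp
    simp only [Bool.and_eq_true, List.all_eq_true, Bool.not_eq_true', beq_eq_false_iff_ne, ne_eq] at hc
    obtain ⟨⟨⟨⟨⟨hm, hno⟩, -⟩, -⟩, -⟩, -⟩ := hc
    have hmem : π (X.x p.1 s) v ∈ X.Es π topA (dl 56 t) := by
      have h := X.move_mem π hm s hvA
      rwa [X.Es_congr π (m' := dl 56 t) fun r hr => shM_keep (fun a ha => dl_ne _ fun (e : a = 56) => hno r hr (e ▸ ha)) s] at h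
    obtain ⟨c, hc⟩ := (finrank_eq_one_iff_of_nonzero' (⟨v, hvA⟩ : X.Es π topA (dl 56 t))
      (fun e => hv0 (congrArg Subtype.val e))).1 (X.base_line π hone ht) ⟨_, hmem⟩
    exact ⟨c, (congrArg Subtype.val hc).symm⟩
  intro r hr
  rcases List.mem_cons.1 hr with rfl | hr
  · exact hv _ List.mem_cons_self
  rw [dl_ne _ (fun e : r = 56 => h56 (e ▸ hr))]
  rcases hF r hr with hr' | ⟨p, hp, rfl⟩
  · have := hv r (List.mem_cons_of_mem _ hr')
    rwa [dl_ne _ (fun e : r = 56 => h56 (e ▸ hr))] at this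
  · have hc := List.all_eq_true.1 stab_base p hp
    simp only [Bool.and_eq_true, List.any_eq_true, natBeq_eq, decide_eq_true_eq, Bool.not_eq_true',
      decide_eq_false_iff_not, beq_iff_eq, List.all_eq_true] at hc
    obtain ⟨⟨⟨⟨⟨hm, -⟩, hs⟩, hne⟩, q1, hq1, e1⟩, q2, hq2, e2⟩ := hc
    have hm1 := chkMove_iff.1 ((Bool.and_eq_true _ _).mp ((Bool.and_eq_true _ _).mp ((Bool.and_eq_true _ _).mp
      ((Bool.and_eq_true _ _).mp ((Bool.and_eq_true _ _).mp (List.all_eq_true.1 stab_base q1 hq1)).1).1).1).1).1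
    have hm2 := chkMove_iff.1 ((Bool.and_eq_true _ _).mp ((Bool.and_eq_true _ _).mp ((Bool.and_eq_true _ _).mp
      ((Bool.and_eq_true _ _).mp ((Bool.and_eq_true _ _).mp (List.all_eq_true.1 stab_base q2 hq2)).1).1).1).1).1
    exact X.eig_zero_of_commutator π (e1 ▸ hm1.1) (e2 ▸ hm2.1) hne hs hv0 (e1 ▸ scal q1 hq1) (e2 ▸ scal q2 hq2)
      (scal p hp)

theorem ex_base (hone : ∀ t : F, t ≠ 0 → finrank ℂ (X.Es π topA (dl 71 t)) = 1) : X.ExP π 56 := by
  intro t ht
  have h1 : 0 < finrank ℂ (X.Es π topA (dl 56 t)) := by rw [X.base_line π hone ht]; exact one_pos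
  obtain ⟨⟨v, hv⟩, hv0⟩ := Module.finrank_pos_iff_exists_ne_zero.1 h1
  have hb := base_ok
  simp only [Bool.and_eq_true, List.all_eq_true, List.contains_iff_mem, Bool.or_eq_true, Bool.not_eq_true',
    natBeq_eq, decide_eq_false_iff_not] at hb
  obtain ⟨⟨⟨⟨hpos, hS⟩, -⟩, -⟩, -⟩ := hb
  have h := X.fix_base π hone t ht v (fun r hr => by
    rcases List.mem_cons.1 hr with rfl | hr
    · exact hv _ (mem_topA.2 (by omega))
    · exact hv r (hS r hr).1)
  refine ⟨v, fun e => hv0 (Subtype.ext e), fun r hr => ?_⟩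
  rcases List.mem_cons.1 hr with rfl | hr
  · exact h _ List.mem_cons_self
  · exact h r (hpos r hr)

/-- Vectors exist at every fundamental root. -/
theorem ex_simple (hone : ∀ t : F, t ≠ 0 → finrank ℂ (X.Es π topA (dl 71 t)) = 1) :
    ∀ b ∈ [56, 46, 42, 39, 37, 36], X.ExP π b := by
  have hP := List.all_eq_true.1 prop_ok
  have hE := List.all_eq_true.1 ex_ok
  have f1 := X.fix_prop π (hP (_, _, _, _, _) (List.mem_cons_self)) (X.fix_base π hone)
  have f3 := X.fix_prop π (hP (⟨42, 39, 43, 3, 2⟩, fixS42, fixF42, fixS39, fixF39) (by simp [links])) f1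
  have f2 := X.fix_prop π (hP (⟨39, 46, 47, 1, 3⟩, fixS39, fixF39, fixS46, fixF46) (by simp [links])) f3
  have f5 := X.fix_prop π (hP (⟨39, 37, 40, 4, 3⟩, fixS39, fixF39, fixS37, fixF37) (by simp [links])) f3
  have f6 := X.fix_prop π (hP (⟨37, 36, 38, 5, 4⟩, fixS37, fixF37, fixS36, fixF36) (by simp [links])) f5
  have e1 := X.ex_base π hone
  have e3 := X.ex_prop π (hE (⟨56, 42, 57, 2, 0⟩, fixS56, fixF56, fixS42, fixF42) (by simp [links])) e1 f1
  have e4 := X.ex_prop π (hE (⟨42, 39, 43, 3, 2⟩, fixS42, fixF42, fixS39, fixF39) (by simp [links])) e3 f3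
  have e2 := X.ex_prop π (hE (⟨39, 46, 47, 1, 3⟩, fixS39, fixF39, fixS46, fixF46) (by simp [links])) e4 f2
  have e5 := X.ex_prop π (hE (⟨39, 37, 40, 4, 3⟩, fixS39, fixF39, fixS37, fixF37) (by simp [links])) e4 f5
  have e6 := X.ex_prop π (hE (⟨37, 36, 38, 5, 4⟩, fixS37, fixF37, fixS36, fixF36) (by simp [links])) e5 f6
  intro b hb
  simp only [List.mem_cons, List.not_mem_nil, or_false] at hb
  rcases hb with rfl | rfl | rfl | rfl | rfl | rfl <;> assumption

/-- Vectors exist at every positive root. -/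
theorem ex_pos (hone : ∀ t : F, t ≠ 0 → finrank ℂ (X.Es π topA (dl 71 t)) = 1) :
    ∀ b, b ∈ posL chevE6 → ∀ t : F, t ≠ 0 → ∃ v : V, v ≠ 0 ∧ v ∈ X.Es π (b :: above b) (dl b t) := by
  intro b
  induction b using Nat.strong_induction_on with
  | _ b ih =>
    intro hb t ht
    rcases Bool.or_eq_true _ _ |>.mp (List.all_eq_true.1 up_cover b hb) with h | h
    · obtain ⟨v, hv0, hv⟩ := X.ex_simple π hone b (List.contains_iff_mem.1 h) t ht
      exact ⟨v, hv0, X.Es_mono π (fun r hr => by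
        rcases List.mem_cons.1 hr with rfl | hr
        · exact List.mem_cons_self
        · exact List.mem_cons_of_mem _ (List.mem_filter.1 hr).1) _ hv⟩
    · obtain ⟨⟨b', i, d⟩, hp, he⟩ := List.any_eq_true.1 h
      rw [natBeq_eq, decide_eq_true_eq] at he
      obtain rfl : b' = b := he
      have hc := List.all_eq_true.1 up_ok _ hp
      simp only [Bool.and_eq_true, Nat.blt_eq, Nat.ble_eq, natBeq_eq, decide_eq_true_eq] at hc
      obtain ⟨⟨⟨⟨hi, hlt⟩, h36⟩, hperm⟩, hw⟩ := hc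
      have hdn : d < chevE6.nroots := by
        have := List.mem_range'_1.1 hb
        show d < 72
        change 36 ≤ b' ∧ b' < 36 + 36 at this
        omega
      have hd : d ∈ posL chevE6 := List.mem_range'_1.2 (by
        have := List.mem_range'_1.1 hb
        change 36 ≤ b' ∧ b' < 36 + 36 at this
        show 36 ≤ d ∧ d < 36 + 36
        omega)
      have hL : IsWord chevE6 [i] := fun j hj => by rw [List.mem_singleton] at hj; subst hj; exact hi
      set c : F := (weta E [i] d : F) * t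
      obtain ⟨v, hv0, hv⟩ := ih d hlt hd c (mul_ne_zero (weta_ne _ _) ht)
      refine ⟨π (X.nW [i] hL) v, fun e => hv0 (act_injective π (X.nW [i] hL) (by rw [map_zero]; exact e)), ?_⟩
      have := X.word_mem π hL (fun r hr => ?_) hw hv
      · rw [hperm, show (weta E [i] d : F) * c = t by
          rcases weta_cases (C := E) [i] d with w | w <;> simp [c, w]] at this
        exact this
      · rcases List.mem_cons.1 hr with rfl | hr
        · exact hdn
        · have := List.mem_range'_1.1 (List.mem_filter.1 hr).1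
          change 36 ≤ r ∧ r < 36 + 36 at this
          show r < 72
          omega

end Setup

end Cfsg.Agent.Lib.E6Deg41
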